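import Mathlib.GroupTheory.PGroup
import Mathlib.Data.ZMod.Basic
import Mathlib.GroupTheory.GroupAction.Quotient
import Mathlib.Tactic.Abel
import Mathlib.Algebra.Field.ZMod

/-!
# The degree of a permutation commuting with a free right action

`G` acts on `X` on the left and on the right (as `G × G`), freely on the right; `m : X → A` is a
label, shifted by `μ b` under the right action of `b`.
-/

set_option autoImplicit false

namespace Cfsg.Agent.Fusion.PPower

universe u v

variable {G : Type u} [Group G] {X : Type u} [MulAction (G × G) X]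

/-- A label function for a group of permutations, equivariant on a chosen set of points. -/
theorem exists_label {K : Type*} [Group K] {X : Type*} {A : Type*} [AddCommGroup A]
    (ρ : K →* Equiv.Perm X) (c : K → A) (hc : ∀ a b, c (a * b) = c a + c b) (Z : Set X)
    (hfix : ∀ x ∈ Z, ∀ k, ρ k x = x → c k = 0) :
    ∃ m : X → A, ∀ x ∈ Z, ∀ k, m (ρ k x) = m x + c k := by
  classical
  letI R : Setoid X :=
    { r := fun x y => ∃ k, ρ k x = y
      iseqv :=
        { refl := fun x => ⟨1, by simp⟩
          symm := by rintro x y ⟨k, rfl⟩; exact ⟨k⁻¹, by simp⟩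
          trans := by rintro x y z ⟨k, rfl⟩ ⟨l, rfl⟩; exact ⟨l * k, by simp⟩ } }
  have hr : ∀ x : X, ∃ k, ρ k (Quotient.mk R x).out = x := fun x => Quotient.mk_out (s := R) x
  choose kk hkk using hr
  refine ⟨fun x => c (kk x), fun x hx k => ?_⟩
  have hq : Quotient.mk R (ρ k x) = Quotient.mk R x := (Quotient.sound (s := R) ⟨k, rfl⟩).symm
  have h1 := hkk (ρ k x)
  rw [hq] at h1
  set o := (Quotient.mk R x).out
  have h2 : ρ (kk x) o = x := hkk x
  have h5 : ρ ((k * kk x)⁻¹ * kk (ρ k x)) o = o := by
    rw [map_mul, Equiv.Perm.mul_apply, h1, map_inv, map_mul, Equiv.Perm.inv_eq_iff_eq,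
      Equiv.Perm.mul_apply, h2]
  have h6 := hfix x hx (kk x * ((k * kk x)⁻¹ * kk (ρ k x)) * (kk x)⁻¹) (by
    rw [map_mul, Equiv.Perm.mul_apply, map_inv, show (ρ (kk x))⁻¹ x = o from
      Equiv.Perm.inv_eq_iff_eq.mpr h2.symm, map_mul, Equiv.Perm.mul_apply, h5, h2])
  have h7 : c (kk (ρ k x)) = c (k * kk x) + c ((k * kk x)⁻¹ * kk (ρ k x)) := by
    rw [← hc, mul_inv_cancel_left]
  have h8 : c 1 = 0 := by
    have := hc 1 1
    rwa [one_mul, left_eq_add] at this
  have h9 : c (kk x) + c (kk x)⁻¹ = 0 := by rw [← hc, mul_inv_cancel, h8]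
  rw [hc, hc] at h6
  have h10 : c ((k * kk x)⁻¹ * kk (ρ k x)) = 0 := by
    rw [add_right_comm, h9, zero_add] at h6; exact h6
  show c (kk (ρ k x)) = c (kk x) + c k
  rw [h7, h10, add_zero, hc, add_comm]

/-- Orbits of the right action. -/
def rrel (G : Type u) (X : Type u) [Group G] [MulAction (G × G) X] : Setoid X where
  r x y := ∃ b : G, ((1 : G), b) • x = y
  iseqv :=
    { refl := fun x => ⟨1, by rw [Prod.mk_one_one, one_smul]⟩
      symm := by
        rintro x y ⟨b, rfl⟩
        exact ⟨b⁻¹, by
          rw [smul_smul, Prod.mk_mul_mk, mul_one, inv_mul_cancel, Prod.mk_one_one, one_smul]⟩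
      trans := by
        rintro x y z ⟨b, rfl⟩ ⟨c, rfl⟩
        exact ⟨c * b, by rw [smul_smul, Prod.mk_mul_mk, mul_one]⟩ }

variable (G X) in
/-- The right orbits. -/
abbrev RQ : Type u := Quotient (rrel G X)

/-- `e` commutes with the right action. -/
def RComm (G : Type u) [Group G] {X : Type u} [MulAction (G × G) X] (e : Equiv.Perm X) : Prop :=
  ∀ (b : G) (x : X), e (((1 : G), b) • x) = ((1 : G), b) • e x

theorem RComm.one : RComm G (1 : Equiv.Perm X) := fun _ _ => rfl

theorem RComm.mul {e e' : Equiv.Perm X} (h : RComm G e) (h' : RComm G e') : RComm G (e * e') :=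
  fun b x => by rw [Equiv.Perm.mul_apply, h', h, Equiv.Perm.mul_apply]

theorem RComm.inv {e : Equiv.Perm X} (h : RComm G e) : RComm G e⁻¹ := fun b x => by
  rw [Equiv.Perm.inv_eq_iff_eq, h, Equiv.Perm.coe_inv, Equiv.apply_symm_apply]

/-- The permutation of the right orbits induced by `e`. -/
def qperm {e : Equiv.Perm X} (h : RComm G e) : RQ G X ≃ RQ G X where
  toFun := Quotient.map e fun x y hxy => by
    obtain ⟨b, rfl⟩ := hxy
    exact ⟨b, (h b x).symm⟩
  invFun := Quotient.map (⇑(e⁻¹)) fun x y hxy => by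
    obtain ⟨b, rfl⟩ := hxy
    exact ⟨b, (h.inv b x).symm⟩
  left_inv q := by
    induction q using Quotient.ind with
    | _ x => exact congrArg Quotient.mk'' (e.symm_apply_apply x)
  right_inv q := by
    induction q using Quotient.ind with
    | _ x => exact congrArg Quotient.mk'' (e.apply_symm_apply x)

theorem qperm_mk {e : Equiv.Perm X} (h : RComm G e) (x : X) :
    qperm h (Quotient.mk _ x) = Quotient.mk _ (e x) := rfl

variable {A : Type v} [AddCommGroup A]

/-- `F` is constant on right orbits. -/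
def RInv (G : Type u) [Group G] {X : Type u} [MulAction (G × G) X] {A : Type v} (F : X → A) : Prop :=
  ∀ (b : G) (x : X), F (((1 : G), b) • x) = F x

theorem RInv.out {F : X → A} (h : RInv G F) (x : X) :
    F (Quotient.mk (rrel G X) x).out = F x := by
  obtain ⟨b, hb⟩ := Quotient.mk_out (s := rrel G X) x
  conv_rhs => rw [← hb]
  exact (h b _).symm

theorem apply_qperm_out {F : X → A} (hF : RInv G F) {e : Equiv.Perm X} (h : RComm G e)
    (q : RQ G X) : F (qperm h q).out = F (e q.out) := by
  induction q using Quotient.ind with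
  | _ x =>
    rw [qperm_mk h, hF.out]
    exact ((show RInv G (fun y => F (e y)) from fun b y => by
      show F (e _) = F (e y); rw [h, hF]).out x).symm

theorem sum_shift [Fintype (RQ G X)] {F : X → A} (hF : RInv G F) {e : Equiv.Perm X}
    (h : RComm G e) : ∑ q : RQ G X, F (e q.out) = ∑ q : RQ G X, F q.out := by
  rw [← Equiv.sum_comp (qperm h) (fun q => F q.out)]
  exact Finset.sum_congr rfl fun q _ => (apply_qperm_out hF h q).symm

theorem sum_shift_mem [Fintype (RQ G X)] {F : X → A} (hF : RInv G F) {e : Equiv.Perm X}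
    (h : RComm G e) {Z : Finset (RQ G X)} (hZ : ∀ q, q ∈ Z ↔ qperm h q ∈ Z) :
    ∑ q ∈ Z, F (e q.out) = ∑ q ∈ Z, F q.out :=
  Finset.sum_equiv (qperm h) hZ fun q _ => (apply_qperm_out hF h q).symm

/-- A label shifted by `μ` under the right action. -/
def IsLabel (μ : G → A) (m : X → A) : Prop :=
  ∀ (b : G) (x : X), m (((1 : G), b) • x) = m x + μ b

theorem IsLabel.diff {μ : G → A} {m : X → A} (hm : IsLabel μ m) {e : Equiv.Perm X}
    (h : RComm G e) : RInv G (fun x => m (e x) - m x) := fun b x => by
  show m (e _) - m _ = _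
  rw [h, hm, hm]; abel

/-- The degree of a permutation. -/
noncomputable def deg [Fintype (RQ G X)] (m : X → A) (e : Equiv.Perm X) : A :=
  ∑ q : RQ G X, (m (e q.out) - m q.out)

variable [Fintype (RQ G X)] {μ : G → A} {m : X → A}

theorem deg_mul (hm : IsLabel μ m) {e e' : Equiv.Perm X} (h : RComm G e) (h' : RComm G e') :
    deg (G := G) m (e * e') = deg (G := G) m e + deg (G := G) m e' := by
  have h1 : deg (G := G) m (e * e') =
      ∑ q : RQ G X, ((m (e (e' q.out)) - m (e' q.out)) + (m (e' q.out) - m q.out)) :=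
    Finset.sum_congr rfl fun q _ => by rw [Equiv.Perm.mul_apply]; abel
  rw [h1, Finset.sum_add_distrib, sum_shift (hm.diff h) h']
  rfl

theorem deg_one : deg (G := G) m (1 : Equiv.Perm X) = 0 := by simp [deg]

theorem deg_inv (hm : IsLabel μ m) {e : Equiv.Perm X} (h : RComm G e) :
    deg (G := G) m e⁻¹ = -deg (G := G) m e := by
  rw [eq_neg_iff_add_eq_zero, ← deg_mul hm h.inv h, inv_mul_cancel, deg_one]

theorem deg_pow (hm : IsLabel μ m) {e : Equiv.Perm X} (h : RComm G e) (n : ℕ) :
    RComm G (e ^ n) ∧ deg (G := G) m (e ^ n) = n • deg (G := G) m e := by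
  induction n with
  | zero => exact ⟨RComm.one, by rw [pow_zero, deg_one, zero_nsmul]⟩
  | succ n ih => exact ⟨pow_succ e n ▸ ih.1.mul h, by rw [pow_succ, deg_mul hm ih.1 h, ih.2, succ_nsmul]⟩

/-- A function invariant under a finite `p`-group sums to the sum over the fixed points. -/
theorem sum_eq_fixed {p : ℕ} [Fact p.Prime] {H : Type*} [Group H] [Finite H] (hH : IsPGroup p H)
    {Y : Type*} [MulAction H Y] [Fintype Y] [DecidablePred fun y : Y => ∀ h : H, h • y = y]
    {B : Type*} [AddCommGroup B] [Module (ZMod p) B] (F : Y → B)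
    (hF : ∀ (h : H) (y : Y), F (h • y) = F y) :
    ∑ y, F y = ∑ y ∈ Finset.univ.filter (fun y => ∀ h : H, h • y = y), F y := by
  classical
  rw [← Finset.sum_filter_add_sum_filter_not Finset.univ (fun y : Y => ∀ h : H, h • y = y),
    add_eq_left, ← Finset.sum_fiberwise _ (fun y : Y => (Quotient.mk (MulAction.orbitRel H Y) y))]
  refine Finset.sum_eq_zero fun c _ => ?_
  induction c using Quotient.ind with
  | _ y₀ =>
    set W := (Finset.univ.filter fun y : Y => ¬ ∀ h : H, h • y = y).filter
      (fun y => Quotient.mk (MulAction.orbitRel H Y) y = Quotient.mk _ y₀) with hW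
    by_cases hfix : ∀ h : H, h • y₀ = y₀
    · refine Finset.sum_eq_zero fun y hy => absurd ?_ (Finset.mem_filter.mp (Finset.mem_filter.mp hy).1).2
      obtain ⟨h, rfl⟩ := (Quotient.exact (Finset.mem_filter.mp hy).2 : y ∈ MulAction.orbit H y₀)
      intro k
      show k • h • y₀ = h • y₀
      rw [hfix h, hfix k]
    · have hWeq : W = (MulAction.orbit H y₀).toFinset := by
        ext y
        rw [Set.mem_toFinset, hW, Finset.mem_filter, Finset.mem_filter]
        refine ⟨fun h => Quotient.exact h.2, fun hy => ⟨⟨Finset.mem_univ _, ?_⟩, Quotient.sound hy⟩⟩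
        obtain ⟨h, rfl⟩ := hy
        intro hall
        apply hfix
        intro k
        have h1 : y₀ = h • y₀ := by
          have := hall h⁻¹
          rwa [inv_smul_smul] at this
        rw [h1]
        exact hall k
      rw [hWeq, Finset.sum_congr rfl (g := fun _ => F y₀) (by
        intro y hy
        obtain ⟨h, rfl⟩ := Set.mem_toFinset.mp hy
        exact hF h y₀), Finset.sum_const, ← Set.ncard_eq_toFinset_card', ← Nat.card_coe_set_eq]
      obtain ⟨n, hn⟩ := hH.card_orbit y₀
      have hn0 : n ≠ 0 := by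
        intro h0
        rw [h0, pow_zero, Nat.card_eq_one_iff_unique] at hn
        obtain ⟨hs, -⟩ := hn
        exact hfix fun h => congrArg Subtype.val
          (Subsingleton.elim (⟨h • y₀, h, rfl⟩ : MulAction.orbit H y₀) ⟨y₀, 1, one_smul H y₀⟩)
      rw [hn, ← Nat.cast_smul_eq_nsmul (ZMod p), Nat.cast_pow, ZMod.natCast_self, zero_pow hn0,
        zero_smul]

end Cfsg.Agent.Fusion.PPower
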