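import Cfsg.Agent.Fusion.PPower.Kernel
import Cfsg.Agent.H90.Tate
import Cfsg.Agent.H90.PPowerContain
import Cfsg.Agent.PGroups.Basic

/-!
# Subsystems of `p`-power index

Existence and uniqueness of the saturated subsystem of `p`-power index over a subgroup containing
the hyperfocal subgroup.
-/

set_option autoImplicit false
set_option linter.style.haveILetI false

namespace Cfsg.Agent.Fusion.PPower

open Cfsg Cfsg.FusionSystem Cfsg.Agent.FusionSys MulAction
open scoped commutatorElement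

universe u

variable {Ω : Type u} [Group Ω] {S : Subgroup Ω} {p : ℕ} [Fact p.Prime]

theorem isTw_stabilizer {F : FusionSystem S} {ι : Type u} {D : ι → Subgroup (↥S × ↥S)}
    (hD : ∀ k, H90.IsTw F (D k)) (x : H90.BiSet D) :
    H90.IsTw F (stabilizer (↥S × ↥S) x) := by
  obtain ⟨k, q⟩ := x
  induction q using QuotientGroup.induction_on with
  | H b =>
    convert (H90.isTw_conj b (hD k)).1 using 1
    refine le_antisymm (fun y hy => ?_) ?_
    · refine ⟨b⁻¹ * y * b, ?_, by show b * (b⁻¹ * y * b) * b⁻¹ = y; group⟩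
      have h1 : y • (QuotientGroup.mk b : (↥S × ↥S) ⧸ D k) = QuotientGroup.mk b :=
        eq_of_heq (Sigma.mk.inj (mem_stabilizer_iff.mp hy)).2
      have h2 := QuotientGroup.eq.mp h1.symm
      rw [mul_assoc]; exact h2
    · rintro _ ⟨y, hy, rfl⟩
      refine Sigma.ext rfl (heq_of_eq ?_)
      show ((QuotientGroup.mk (b * y * b⁻¹ * b) : (↥S × ↥S) ⧸ D k)) = QuotientGroup.mk b
      rw [inv_mul_cancel_right]
      exact QuotientGroup.eq.mpr (by simpa using (D k).inv_mem hy)

variable [Finite S]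

/-- A stable homomorphism gives a saturated subsystem on its kernel. -/
theorem exists_sub_ker (hS : IsPGroup p S) {F : FusionSystem S} (hF : F.IsSaturated p)
    (μ : ↥S → ZMod p) (hmul : ∀ a b, μ (a * b) = μ a + μ b)
    (hst : ∀ (R : Subgroup Ω) (ψ : ↥R →* Ω), ψ ∈ F.Hom R → ∀ (v : ↥R) (a b : ↥S),
      (a : Ω) = v → (b : Ω) = ψ v → μ b = μ a)
    (hsurj : ∃ s, μ s ≠ 0) (M : Subgroup Ω)
    (hM : ∀ x, x ∈ M ↔ ∃ hx : x ∈ S, μ ⟨x, hx⟩ = 0) :
    ∃ E : FusionSystem M, E.IsSaturated p ∧ E.IsSubsystemOf F ∧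
      ∀ P : Subgroup Ω, P ≤ M →
        (pResidual p (F.autGroup P)).map (F.autGroup P).subtype ≤ E.autGroup P := by
  classical
  obtain ⟨ι, hι, D, hD, hk, hstab⟩ := H90.exists_biset hS hF
  have htw := isTw_stabilizer hD
  haveI : Fintype (RQ ↥S (H90.BiSet D)) := Fintype.ofFinite _
  obtain ⟨m, hm⟩ := exists_label (MulAction.toPermHom (↥S × ↥S) (H90.BiSet D))
    (fun k => μ k.2 - μ k.1)
    (fun a b => by rw [Prod.fst_mul, Prod.snd_mul, hmul, hmul]; abel) Set.univ
    (fun x _ k hk => by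
      obtain ⟨φ, hφ, hφK⟩ := htw x
      exact sub_eq_zero.mpr (hst _ φ hφ ⟨_, H90.fst_mem_src (k := k) hk⟩ k.1 k.2 rfl
        (hφK k hk).symm))
  have hfree : ∀ (b : ↥S) (x : H90.BiSet D), ((1 : ↥S), b) • x = x → b = 1 := fun b x hx =>
    congrArg Prod.snd ((htw x).eq_of_fst (k := ((1 : ↥S), b)) (k' := 1) hx (one_mem _) rfl)
  have hcard : Nat.card (H90.BiSet D) =
      Nat.card ↥S * ∑ k, ((H90.src (D k)).subgroupOf S).index := by
    rw [Nat.card_sigma, Finset.mul_sum]
    refine Finset.sum_congr rfl fun k _ => ?_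
    have h1 := (D k).index_mul_card
    have h2 := ((H90.src (D k)).subgroupOf S).index_mul_card
    rw [Nat.card_congr (Subgroup.subgroupOfEquivOfLe (H90.src_le_top _)).toEquiv,
      (hD k).card_src] at h2
    rw [Nat.card_prod, ← h2] at h1
    show (D k).index = _
    refine Nat.eq_of_mul_eq_mul_right (Nat.card_pos (α := ↥(D k))) (h1.trans ?_)
    rw [← h2]; ring
  let e : RQ ↥S (H90.BiSet D) × ↥S ≃ H90.BiSet D :=
    Equiv.ofBijective (fun z => ((1 : ↥S), z.2) • z.1.out) (by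
      refine ⟨?_, fun x => ?_⟩
      · rintro ⟨q, b⟩ ⟨q', b'⟩ h
        have h' : ((1 : ↥S), b) • q.out = ((1 : ↥S), b') • q'.out := h
        have hq : q = q' := by
          rw [← Quotient.out_eq q, ← Quotient.out_eq q']
          exact Quotient.sound (s := rrel ↥S _) ⟨b'⁻¹ * b, by
            calc ((1 : ↥S), b'⁻¹ * b) • q.out = ((1 : ↥S), b'⁻¹) • ((1 : ↥S), b) • q.out := by
                  rw [smul_smul, Prod.mk_mul_mk, one_mul]
              _ = _ := by
                  rw [h', smul_smul, Prod.mk_mul_mk, one_mul, inv_mul_cancel, Prod.mk_one_one,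
                    one_smul]⟩
        subst hq
        refine Prod.ext rfl (inv_mul_eq_one.mp (hfree _ q.out ?_))
        calc ((1 : ↥S), b⁻¹ * b') • q.out = ((1 : ↥S), b⁻¹) • ((1 : ↥S), b') • q.out := by
              rw [smul_smul, Prod.mk_mul_mk, one_mul]
          _ = _ := by
              rw [← h', smul_smul, Prod.mk_mul_mk, one_mul, inv_mul_cancel, Prod.mk_one_one,
                one_smul]
      · obtain ⟨b, hb⟩ := Quotient.exact (s := rrel ↥S _)
          (Quotient.out_eq (Quotient.mk (rrel ↥S (H90.BiSet D)) x))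
        exact ⟨(Quotient.mk _ x, b), hb⟩)
  have hG : Good F μ m :=
    { isPGroup := hS
      sat := hF
      tw := htw
      lift := fun R ψ hψ => by
        obtain ⟨θ, hθ⟩ := hstab R (F.le_of_mem hψ).1 ψ hψ
        refine ⟨θ, fun b x => ?_, fun a a' ha he => Equiv.ext fun x => ?_⟩
        · have h1 := hθ 1 b x
          rw [show (⟨((1 : ↥R) : Ω), (F.le_of_mem hψ).1 (1 : ↥R).2⟩ : ↥S) = 1 from Subtype.ext rfl,
            show (⟨ψ 1, (F.le_of_mem hψ).2 1⟩ : ↥S) = 1 from Subtype.ext (map_one ψ)] at h1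
          exact h1
        · have h1 := hθ ⟨a, ha⟩ 1 x
          rw [show (⟨ψ ⟨a, ha⟩, (F.le_of_mem hψ).2 _⟩ : ↥S) = a' from Subtype.ext he] at h1
          exact h1
      map_mul := hmul
      stable := hst
      label := fun a b x => hm x (Set.mem_univ _) (a, b)
      unit := by
        rw [Ne, ZMod.natCast_eq_zero_iff]
        convert hk using 2
        have h1 := Nat.card_congr e
        rw [Nat.card_prod, hcard, mul_comm, Nat.card_eq_fintype_card (α := RQ ↥S (H90.BiSet D))] at h1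
        exact Nat.eq_of_mul_eq_mul_left Nat.card_pos h1
      surj := hsurj }
  have hker : hG.ker = M := by
    ext x
    rw [hG.mem_ker, hM]
  subst hker
  exact ⟨hG.sub, hG.isSaturated_sub, hG.sub_le, fun P hP => hG.pResidual_le_sub hP⟩

/-- The hyperfocal subgroup of a subsystem lies in that of the system. -/
theorem hyp_sub_le {F : FusionSystem S} {M : Subgroup Ω} [Finite M] {E : FusionSystem M}
    (h : E.IsSubsystemOf F) : E.hyperfocalSubgroup p ≤ F.hyperfocalSubgroup p :=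
  (Subgroup.closure_le _).2 (by
    rintro _ ⟨P, α, x, hP, hα, rfl⟩
    have hle : E.autGroup P ≤ F.autGroup P :=
      (Subgroup.closure_le _).2 fun β hβ => Subgroup.subset_closure (h P hβ)
    have hMS : M ≤ S := by
      intro y hy
      exact (F.le_of_mem (h M (H90.subtype_mem E le_rfl))).1 hy
    exact H90.mem_hyp F (hP.trans hMS)
      (Fusion.map_pResidual_le (Subgroup.inclusion hle) ⟨α, hα, rfl⟩) x)

/-- Every subgroup above the hyperfocal subgroup carries a saturated subsystem of `p`-power index. -/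
theorem exists_pPower (hS : IsPGroup p S) {F : FusionSystem S} (hF : F.IsSaturated p)
    {T : Subgroup Ω} (hTS : T ≤ S) (hT : F.hyperfocalSubgroup p ≤ T) :
    ∃ E : FusionSystem T, E.IsSaturated p ∧ E.HasPPowerIndexIn F p := by
  suffices H : ∀ (n : ℕ) (S : Subgroup Ω) [Finite S], IsPGroup p S → ∀ F : FusionSystem S,
      F.IsSaturated p → ∀ T : Subgroup Ω, T ≤ S → F.hyperfocalSubgroup p ≤ T → Nat.card S = n →
      ∃ E : FusionSystem T, E.IsSaturated p ∧ E.HasPPowerIndexIn F p from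
    H _ S hS F hF T hTS hT rfl
  intro n
  induction n using Nat.strong_induction_on with
  | _ n ih =>
  intro S _ hS F hF T hTS hT hn
  rcases hTS.eq_or_lt with rfl | hlt
  · exact ⟨F, hF, fun _ _ h => h, hT, fun P _ => Subgroup.map_subtype_le _⟩
  -- a maximal subgroup above `T`
  obtain ⟨M₀, hM₀, hTM₀⟩ := (eq_top_or_exists_le_coatom (T.subgroupOf S)).resolve_left
    (fun h => hlt.not_ge (Subgroup.subgroupOf_eq_top.mp h))
  haveI := PGroups.normal_of_isCoatom hS hM₀
  have hcard : Nat.card (↥S ⧸ M₀) = p := by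
    rw [← Subgroup.index_eq_card]
    exact PGroups.index_eq_of_isCoatom hS hM₀
  let e : (↥S ⧸ M₀) ≃* Multiplicative (ZMod p) :=
    mulEquivOfPrimeCardEq hcard ((Nat.card_congr Multiplicative.toAdd).trans (Nat.card_zmod p))
  let f : ↥S →* Multiplicative (ZMod p) := e.toMonoidHom.comp (QuotientGroup.mk' M₀)
  let μ : ↥S → ZMod p := fun s => (f s).toAdd
  have hμ : ∀ s, μ s = 0 ↔ s ∈ M₀ := fun s => by
    show (e (QuotientGroup.mk s)).toAdd = 0 ↔ _
    rw [toAdd_eq_zero, EmbeddingLike.map_eq_one_iff, QuotientGroup.eq_one_iff]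
  have hmul : ∀ a b, μ (a * b) = μ a + μ b := fun a b => by
    show (f (a * b)).toAdd = _
    rw [map_mul, toAdd_mul]
  set M := M₀.map S.subtype with hMdef
  have hTM : T ≤ M := fun x hx =>
    ⟨⟨x, hTS hx⟩, hTM₀ (Subgroup.mem_subgroupOf.mpr hx), rfl⟩
  have hMS : M ≤ S := Subgroup.map_subtype_le _
  have hfoc : F.focalSubgroup ≤ M := by
    rw [H90.focal_eq hS hF]
    refine sup_le (hT.trans hTM) (Subgroup.commutator_le.2 fun a ha b hb => ?_)
    refine ⟨⁅(⟨a, ha⟩ : ↥S), ⟨b, hb⟩⁆, (hμ _).1 ?_, map_commutatorElement S.subtype _ _⟩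
    show (f _).toAdd = 0
    rw [toAdd_eq_zero, map_commutatorElement, commutatorElement_eq_one_iff_mul_comm]
    exact mul_comm _ _
  obtain ⟨E₁, hE₁, hE₁F, hidx₁⟩ := exists_sub_ker hS hF μ hmul
    (fun R ψ hψ v a b ha hb => by
      have h1 : (a : Ω)⁻¹ * b ∈ M := by
        rw [ha, hb]
        exact hfoc (Subgroup.subset_closure ⟨R, ψ, v, hψ, rfl⟩)
      obtain ⟨c, hc, hce⟩ := h1
      have h2 : b = a * c := Subtype.ext (by
        show (b : Ω) = a * (c : Ω)
        rw [show (c : Ω) = (a : Ω)⁻¹ * b from hce, mul_inv_cancel_left])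
      rw [h2, hmul, (hμ c).2 hc, add_zero])
    (by
      by_contra h
      push_neg at h
      exact hM₀.1 ((Subgroup.eq_top_iff' _).mpr fun s => (hμ s).1 (h s)))
    M (fun x => ⟨fun ⟨s, hs, hse⟩ => hse ▸ ⟨s.2, (hμ s).2 hs⟩,
      fun ⟨hx, h⟩ => ⟨⟨x, hx⟩, (hμ _).1 h, rfl⟩⟩)
  haveI : Finite M := finite_of_le hMS
  have hMlt : Nat.card M < n := hn ▸ H90.card_lt_of_lt le_rfl (lt_of_le_of_ne hMS fun h => hM₀.1
    ((Subgroup.eq_top_iff' _).mpr fun s => by
      obtain ⟨c, hc, hce⟩ := h.ge s.2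
      rwa [← Subtype.ext hce]))
  obtain ⟨E₂, hE₂, hsub, -, hidx₂⟩ :=
    ih _ hMlt M (hS.to_le hMS) E₁ hE₁ T hTM ((hyp_sub_le hE₁F).trans hT) rfl
  refine ⟨E₂, hE₂, fun P φ h => hE₁F P (hsub P h), hT, fun P hP => ?_⟩
  rw [Subgroup.map_le_iff_le_comap]
  refine (Subgroup.closure_le _).2 fun α hα => ?_
  have hα' : Nat.Coprime (orderOf α) p := hα
  have h1 : (α : MulAut ↥P) ∈ E₁.autGroup P :=
    hidx₁ P (hP.trans hTM) ⟨α, Fusion.mem_pResidual hα', rfl⟩
  refine hidx₂ P hP ⟨⟨α, h1⟩, Fusion.mem_pResidual ?_, rfl⟩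
  rw [Subgroup.orderOf_mk, Subgroup.orderOf_coe]
  exact hα'

/-- Saturated subsystems of `p`-power index over the same subgroup coincide. -/
theorem pPower_unique (hS : IsPGroup p S) {F : FusionSystem S} {T : Subgroup Ω} (hTS : T ≤ S)
    {E E' : FusionSystem T} (hE : E.IsSaturated p) (hi : E.HasPPowerIndexIn F p)
    (hE' : E'.IsSaturated p) (hi' : E'.HasPPowerIndexIn F p) : E' = E :=
  FusionSys.ext_hom fun P => Set.Subset.antisymm
    (H90.PPC.main hS hTS hE' hi'.1 le_rfl hi.2.2 P)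
    (H90.PPC.main hS hTS hE hi.1 le_rfl hi'.2.2 P)

end Cfsg.Agent.Fusion.PPower
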