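import Cfsg.Agent.Fusion.PPower.Degree
import Cfsg.Agent.H90.Biset
import Cfsg.Agent.FusionSys.Saturated
import Cfsg.Agent.Fusion.PResidual
import Cfsg.Agent.H41.Basic

/-!
# The subsystem of index `p` cut out by a stable homomorphism

For a stable `μ : S → ZMod p` the maps between subgroups of `ker μ` that lift to a permutation of
degree zero of a stable biset form a saturated subsystem of index `p`.
-/

set_option autoImplicit false
set_option linter.unusedSectionVars false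

namespace Cfsg.Agent.Fusion.PPower

open Cfsg Cfsg.FusionSystem Cfsg.Agent.FusionSys MulAction

universe u

variable {Ω : Type u} [Group Ω] {S : Subgroup Ω}
variable {X : Type u} [MulAction (↥S × ↥S) X]

/-- The permutation given by an element of `S × S`. -/
abbrev T (g : ↥S × ↥S) : Equiv.Perm X := MulAction.toPermHom (↥S × ↥S) X g

/-- `θ` carries the left action through `φ` and commutes with the right action. -/
def Intw (S : Subgroup Ω) {X : Type u} [MulAction (↥S × ↥S) X] {P : Subgroup Ω} (φ : ↥P →* Ω)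
    (θ : Equiv.Perm X) : Prop :=
  RComm ↥S θ ∧ ∀ (a a' : ↥S) (ha : (a : Ω) ∈ P), φ ⟨a, ha⟩ = (a' : Ω) →
    θ * T (a, 1) = T (a', 1) * θ

theorem rcomm_T (a : ↥S) : RComm ↥S (T (X := X) (a, 1)) := fun b x => by
  show (a, (1 : ↥S)) • ((1 : ↥S), b) • x = ((1 : ↥S), b) • (a, (1 : ↥S)) • x
  simp [smul_smul]

theorem Intw.comp {P R : Subgroup Ω} {φ : ↥P →* Ω} {ψ : ↥R →* Ω} {θ θ' : Equiv.Perm X}
    (h : Intw S φ θ) (h' : Intw S ψ θ') (hm : ∀ x, φ x ∈ R) (hS : ∀ x, φ x ∈ S)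
    {χ : ↥P →* Ω} (hχ : ∀ x, χ x = ψ ⟨φ x, hm x⟩) : Intw S χ (θ' * θ) := by
  refine ⟨h'.1.mul h.1, fun a a' ha he => ?_⟩
  rw [hχ] at he
  rw [mul_assoc, h.2 a ⟨_, hS ⟨a, ha⟩⟩ ha rfl, ← mul_assoc, h'.2 _ a' (hm ⟨a, ha⟩) he, mul_assoc]

theorem Intw.inv {P : Subgroup Ω} {φ : ↥P →* Ω} {θ : Equiv.Perm X} (h : Intw S φ θ)
    (hP : P ≤ S) {ψ : ↥φ.range →* Ω} (hψ : ∀ x, ψ ⟨φ x, ⟨x, rfl⟩⟩ = (x : Ω)) :
    Intw S ψ θ⁻¹ := by
  refine ⟨h.1.inv, fun a a' ha he => ?_⟩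
  obtain ⟨y, hy⟩ := ha
  have h1 : ψ ⟨φ y, ⟨y, rfl⟩⟩ = (a' : Ω) := by rw [← he]; exact congrArg ψ (Subtype.ext hy)
  rw [hψ] at h1
  have h2 := h.2 ⟨y, hP y.2⟩ a y.2 hy
  rw [show (⟨(y : Ω), hP y.2⟩ : ↥S) = a' from Subtype.ext h1] at h2
  rw [inv_mul_eq_iff_eq_mul, ← mul_assoc, h2, mul_inv_cancel_right]

theorem Intw.mono {P R : Subgroup Ω} {φ : ↥P →* Ω} {θ : Equiv.Perm X} (h : Intw S φ θ)
    {ψ : ↥R →* Ω} (hle : R ≤ P) (hψ : ∀ x : ↥R, ψ x = φ (Subgroup.inclusion hle x)) :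
    Intw S ψ θ :=
  ⟨h.1, fun a a' ha he => h.2 a a' (hle ha) (by rw [← he, hψ]; rfl)⟩

theorem intw_conj {P : Subgroup Ω} (g : ↥S) {φ : ↥P →* Ω}
    (hφ : ∀ x : ↥P, φ x = (g : Ω) * x * (g : Ω)⁻¹) : Intw S φ (T (X := X) (g, 1)) := by
  refine ⟨rcomm_T g, fun a a' ha he => ?_⟩
  rw [hφ] at he
  rw [T, T, T, ← map_mul, ← map_mul, Prod.mk_mul_mk, Prod.mk_mul_mk]
  congr 2
  exact Subtype.ext (by show (g : Ω) * a = a' * g; rw [← he]; group)

variable [Finite S] [Fintype (RQ ↥S X)] {p : ℕ} [Fact p.Prime]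

/-- The standing hypotheses. -/
structure Good (F : FusionSystem S) (μ : ↥S → ZMod p) (m : X → ZMod p) : Prop where
  isPGroup : IsPGroup p S
  sat : F.IsSaturated p
  tw : ∀ x : X, H90.IsTw F (stabilizer (↥S × ↥S) x)
  lift : ∀ (R : Subgroup Ω) (ψ : ↥R →* Ω), ψ ∈ F.Hom R → ∃ θ : Equiv.Perm X, Intw S ψ θ
  map_mul : ∀ a b, μ (a * b) = μ a + μ b
  stable : ∀ (R : Subgroup Ω) (ψ : ↥R →* Ω), ψ ∈ F.Hom R → ∀ (v : ↥R) (a b : ↥S),
    (a : Ω) = v → (b : Ω) = ψ v → μ b = μ a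
  label : ∀ (a b : ↥S) (x : X), m ((a, b) • x) = m x + (μ b - μ a)
  unit : ((Fintype.card (RQ ↥S X) : ℕ) : ZMod p) ≠ 0
  surj : ∃ s, μ s ≠ 0

variable {F : FusionSystem S} {μ : ↥S → ZMod p} {m : X → ZMod p}

namespace Good

variable (D : Good F μ m)

include D

theorem map_one : μ 1 = 0 := by
  have := D.map_mul 1 1
  rwa [one_mul, left_eq_add] at this

theorem map_pow (a : ↥S) (n : ℕ) : μ (a ^ n) = n • μ a := by
  induction n with
  | zero => rw [pow_zero, D.map_one, zero_nsmul]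
  | succ n ih => rw [pow_succ, D.map_mul, ih, succ_nsmul]

/-- The kernel of `μ` as a subgroup of `Ω`. -/
def ker : Subgroup Ω :=
  Subgroup.map S.subtype
    { carrier := {s | μ s = 0}
      one_mem' := D.map_one
      mul_mem' := fun {a b} ha hb => (D.map_mul a b).trans (by rw [ha, hb, add_zero])
      inv_mem' := fun {a} ha => by
        have h1 := D.map_mul a⁻¹ a
        rw [inv_mul_cancel, D.map_one, show μ a = 0 from ha, add_zero] at h1
        exact h1.symm }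

theorem mem_ker {x : Ω} : x ∈ D.ker ↔ ∃ hx : x ∈ S, μ ⟨x, hx⟩ = 0 :=
  ⟨fun ⟨s, hs, he⟩ => he ▸ ⟨s.2, hs⟩, fun ⟨hx, h⟩ => ⟨⟨x, hx⟩, h, rfl⟩⟩

theorem ker_le : D.ker ≤ S := Subgroup.map_subtype_le _

theorem coe_mem_ker {a : ↥S} : (a : Ω) ∈ D.ker ↔ μ a = 0 :=
  D.mem_ker.trans ⟨fun ⟨_, h⟩ => h, fun h => ⟨a.2, h⟩⟩

theorem map_mem_ker {R : Subgroup Ω} (hR : R ≤ D.ker) {ψ : ↥R →* Ω} (hψ : ψ ∈ F.Hom R) (v : ↥R) :
    ψ v ∈ D.ker := by
  obtain ⟨hv, h0⟩ := D.mem_ker.mp (hR v.2)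
  refine D.mem_ker.mpr ⟨(F.le_of_mem hψ).2 v, ?_⟩
  rw [D.stable R ψ hψ v ⟨v, hv⟩ ⟨ψ v, (F.le_of_mem hψ).2 v⟩ rfl rfl, h0]

theorem isLabel : IsLabel μ m := fun b x => by rw [D.label 1 b x, D.map_one, sub_zero]

theorem deg_T (a : ↥S) :
    deg (G := ↥S) m (T (a, 1)) = -((Fintype.card (RQ ↥S X) : ℕ) • μ a) := by
  rw [deg, Finset.sum_congr rfl (g := fun _ => -μ a) fun q _ => by
    show m ((a, (1 : ↥S)) • q.out) - m q.out = _
    rw [D.label, D.map_one]; ring, Finset.sum_const, Finset.card_univ, smul_neg]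

theorem exists_shift {c : ↥S} (hc : μ c ≠ 0) (d : ZMod p) :
    ∃ n : ℕ, d + deg (G := ↥S) m (T (c ^ n, 1)) = 0 := by
  refine ⟨(d / ((Fintype.card (RQ ↥S X) : ℕ) * μ c)).val, ?_⟩
  rw [D.deg_T, D.map_pow, nsmul_eq_mul, nsmul_eq_mul, ZMod.natCast_val, ZMod.cast_id]
  have hN := D.unit
  field_simp
  ring

theorem deg_T_eq_zero {a : ↥S} : deg (G := ↥S) m (T (a, 1)) = 0 ↔ μ a = 0 := by
  rw [D.deg_T, neg_eq_zero, nsmul_eq_mul, mul_eq_zero, or_iff_right D.unit]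

/-- The subsystem of maps of degree zero. -/
def sub : FusionSystem D.ker where
  Hom P := {φ | φ ∈ F.Hom P ∧ P ≤ D.ker ∧ (∀ x, φ x ∈ D.ker) ∧
    ∃ θ : Equiv.Perm X, Intw S φ θ ∧ deg (G := ↥S) m θ = 0}
  le_of_mem h := ⟨h.2.1, h.2.2.1⟩
  injective_of_mem h := F.injective_of_mem h.1
  conj_mem {P g} hP hg := by
    obtain ⟨hgS, hg0⟩ := D.mem_ker.mp hg
    exact ⟨F.conj_mem (hP.trans D.ker_le) hgS, hP,
      fun x => D.ker.mul_mem (D.ker.mul_mem hg (hP x.2)) (D.ker.inv_mem hg),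
      _, intw_conj ⟨g, hgS⟩ (fun _ => rfl), D.deg_T_eq_zero.mpr hg0⟩
  comp_mem := by
    rintro P Q φ ψ ⟨hφ, hP, hφM, θ, hθ, hθ0⟩ ⟨hψ, -, hψM, θ', hθ', hθ0'⟩ h
    exact ⟨F.comp_mem hφ hψ h, hP, fun _ => hψM _, θ' * θ,
      hθ.comp hθ' h (fun x => D.ker_le (hφM x)) (fun _ => rfl),
      by rw [deg_mul D.isLabel hθ'.1 hθ.1, hθ0, hθ0', add_zero]⟩
  inv_mem := by
    rintro P φ ⟨hφ, hP, hφM, θ, hθ, hθ0⟩
    obtain ⟨ψ, hψ, hψe⟩ := F.inv_mem hφ
    refine ⟨ψ, ⟨hψ, ?_, ?_, θ⁻¹, hθ.inv (hP.trans D.ker_le) hψe, ?_⟩, hψe⟩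
    · rintro _ ⟨x, rfl⟩
      exact hφM x
    · rintro ⟨_, x, rfl⟩
      rw [hψe x]
      exact hP x.2
    · rw [deg_inv D.isLabel hθ.1, hθ0, neg_zero]

theorem sub_le : D.sub.IsSubsystemOf F := fun _ _ h => h.1

/-- Some element of `C_S(Q)` has nonzero value. -/
def Free (_D : Good F μ m) (Q : Subgroup Ω) : Prop := ∃ c : ↥S, (c : Ω) ∈ centralizerIn S Q ∧ μ c ≠ 0

theorem centralizer_zero {Q Q' : Subgroup Ω} (hQ : F.IsFullyCentralized Q) (hconj : F.IsConj Q' Q)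
    (hfree : ¬ D.Free Q) {b : ↥S} (hb : (b : Ω) ∈ centralizerIn S Q') : μ b = 0 := by
  obtain ⟨f, hf⟩ := isConj_iff.1 hconj
  obtain ⟨g, hg, he⟩ := receptive_extend (receptive_of_isFullyCentralized D.isPGroup D.sat hQ) hf
    (N := centralizerIn S Q') fun x hx => hf.isMap.inExt_of_centralizes hx
  have hmem := hf.mem_centralizerIn_of_extends hg le_sup_right he
    (le_sup_left (b := Q') hb) hb
  by_contra hne
  obtain ⟨ψ, hψ, hψg⟩ := hg
  refine hfree ⟨⟨g b, centralizerIn_le hmem⟩, hmem, ?_⟩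
  rwa [D.stable _ ψ hψ ⟨b, le_sup_left (b := Q') hb⟩ b ⟨g b, centralizerIn_le hmem⟩ rfl
    (hψg ⟨b, le_sup_left (b := Q') hb⟩).symm]

/-- A permutation fixing the left action of a non-free subgroup has degree zero. -/
theorem deg_eq_zero_of_not_free [Finite X] {Q : Subgroup Ω} (hQ : F.IsFullyCentralized Q)
    (hfree : ¬ D.Free Q) {g : Equiv.Perm X} (hg : Intw S Q.subtype g) :
    deg (G := ↥S) m g = 0 := by
  classical
  have hQS : Q ≤ S := hQ.1
  have hcomm : ∀ a : ↥(Q.subgroupOf S), Commute g (T ((a : ↥S), (1 : ↥S))) := fun a =>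
    hg.2 (a : ↥S) (a : ↥S) a.2 rfl
  letI : MulAction ↥(Q.subgroupOf S) (RQ ↥S X) :=
    { smul := fun a q => qperm (rcomm_T (a : ↥S)) q
      one_smul := fun q => by
        induction q using Quotient.ind with
        | _ x =>
          refine congrArg Quotient.mk'' ?_
          show (((1 : ↥(Q.subgroupOf S)) : ↥S), (1 : ↥S)) • x = x
          rw [Subgroup.coe_one, Prod.mk_one_one, one_smul]
      mul_smul := fun a b q => by
        induction q using Quotient.ind with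
        | _ x =>
          refine congrArg Quotient.mk'' ?_
          show (((a * b : ↥(Q.subgroupOf S)) : ↥S), (1 : ↥S)) • x = _
          rw [Subgroup.coe_mul, show ((a : ↥S) * b, (1 : ↥S)) = ((a : ↥S), (1 : ↥S)) * ((b : ↥S), 1) by
            simp, mul_smul]
          rfl }
  have hsmul : ∀ (a : ↥(Q.subgroupOf S)) (x : X), a • (Quotient.mk (rrel ↥S X) x) =
      Quotient.mk (rrel ↥S X) (((a : ↥S), (1 : ↥S)) • x) := fun a x => rfl
  have hinvQ : ∀ (a : ↥(Q.subgroupOf S)) (q : RQ ↥S X),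
      (m (g (a • q).out) - m (a • q).out) = m (g q.out) - m q.out := by
    intro a q
    have h1 := apply_qperm_out (D.isLabel.diff hg.1) (rcomm_T (a : ↥S)) q
    refine h1.trans ?_
    show m (g ((T ((a : ↥S), (1 : ↥S))) q.out)) - m ((T ((a : ↥S), (1 : ↥S))) q.out) = _
    rw [show g ((T ((a : ↥S), (1 : ↥S))) q.out) = (T ((a : ↥S), (1 : ↥S))) (g q.out) from
      congrArg (fun e : Equiv.Perm X => e q.out) (hcomm a).eq]
    show m (((a : ↥S), (1 : ↥S)) • g q.out) - m (((a : ↥S), (1 : ↥S)) • q.out) = _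
    rw [D.label, D.label]; abel
  have hQp : IsPGroup p ↥(Q.subgroupOf S) := D.isPGroup.to_subgroup _
  rw [deg, sum_eq_fixed hQp (fun q : RQ ↥S X => m (g q.out) - m q.out) hinvQ]
  set Z := Finset.univ.filter fun q : RQ ↥S X => ∀ a : ↥(Q.subgroupOf S), a • q = q with hZdef
  have hmemZ : ∀ q, q ∈ Z ↔ ∀ a : ↥(Q.subgroupOf S), a • q = q := fun q => by simp [hZdef]
  have hZ : ∀ q, q ∈ Z ↔ qperm hg.1 q ∈ Z := by
    intro q
    rw [hmemZ, hmemZ]
    refine forall_congr' fun a => ?_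
    have h1 : a • qperm hg.1 q = qperm hg.1 (a • q) := by
      induction q using Quotient.ind with
      | _ x =>
        exact congrArg Quotient.mk''
          (congrArg (fun e : Equiv.Perm X => e x) (hcomm a).eq).symm
    rw [h1, (qperm hg.1).injective.eq_iff]
  -- an invariant label on the fixed part
  have hTR : ∀ b : ↥S, Commute g (T ((1 : ↥S), b)) := fun b => Equiv.ext fun x => hg.1 b x
  let ρ : ↥S × ↥(Subgroup.zpowers g) →* Equiv.Perm X :=
    { toFun := fun k => T ((1 : ↥S), k.1) * (k.2 : Equiv.Perm X)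
      map_one' := by
        rw [Prod.fst_one, Prod.snd_one, Subgroup.coe_one, mul_one, T, Prod.mk_one_one, _root_.map_one]
      map_mul' := fun k l => by
        have hk : Commute (k.2 : Equiv.Perm X) (T ((1 : ↥S), l.1)) := by
          obtain ⟨n, hn⟩ := k.2.2
          rw [← hn]
          exact (hTR l.1).zpow_left n
        rw [Prod.fst_mul, Prod.snd_mul, Subgroup.coe_mul,
          show T ((1 : ↥S), k.1 * l.1) = T (X := X) ((1 : ↥S), k.1) * T ((1 : ↥S), l.1) by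
            rw [T, T, T, ← _root_.map_mul, Prod.mk_mul_mk, one_mul]]
        rw [mul_assoc (T ((1 : ↥S), k.1)), ← mul_assoc (T ((1 : ↥S), l.1)), ← hk.eq]
        simp only [mul_assoc] }
  obtain ⟨m₀, hm₀⟩ := exists_label ρ (fun k => μ k.1) (fun k l => D.map_mul _ _)
    {x : X | Quotient.mk (rrel ↥S X) x ∈ Z} (by
      rintro x hx ⟨b, ⟨h, hh⟩⟩ hfix
      show μ b = 0
      obtain ⟨φ, hφ, hφK⟩ := D.tw x
      have hex : ∀ a : ↥(Q.subgroupOf S), ∃ a' : ↥S, ((a : ↥S), a') • x = x := by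
        intro a
        have h1 := (hmemZ _).mp hx a
        rw [hsmul] at h1
        obtain ⟨a', ha'⟩ := Quotient.exact (s := rrel ↥S X) h1
        exact ⟨a', by simpa [smul_smul] using ha'⟩
      have hQsrc : Q ≤ H90.src (stabilizer (↥S × ↥S) x) := fun a ha => by
        obtain ⟨a', ha'⟩ := hex ⟨⟨a, hQS ha⟩, ha⟩
        exact H90.fst_mem_src (k := ((⟨a, hQS ha⟩ : ↥S), a')) ha'
      refine D.centralizer_zero hQ
        (isConj_symm (show F.IsConj Q (H90.res φ hQsrc).range from ⟨_, H90.res_mem F hφ hQsrc, rfl⟩))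
        hfree (mem_centralizerIn.mpr ⟨b.2, ?_⟩)
      rintro _ ⟨a, rfl⟩
      obtain ⟨a', ha'⟩ := hex ⟨⟨(a : Ω), hQS a.2⟩, a.2⟩
      set a₀ : ↥S := ⟨(a : Ω), hQS a.2⟩ with ha₀
      have hb : ((1 : ↥S), b) • h x = x := hfix
      have hc : Commute h (T (a₀, a')) := by
        obtain ⟨n, hn⟩ := hh
        rw [← hn]
        refine Commute.zpow_left ?_ n
        rw [show T (X := X) (a₀, a') = T (a₀, (1 : ↥S)) * T ((1 : ↥S), a') by
          rw [T, T, T, ← _root_.map_mul, Prod.mk_mul_mk, one_mul, mul_one]]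
        exact (hcomm ⟨a₀, a.2⟩).mul_right (hTR a')
      have h2 : (a₀, a') • h x = h x := by
        have := congrArg (fun e : Equiv.Perm X => e x) hc.eq
        exact this.symm.trans (congrArg h ha')
      have h3 : h x = ((1 : ↥S), b⁻¹) • x := by
        conv_rhs => rw [← hb]
        simp [show ((1 : ↥S), (1 : ↥S)) = 1 from rfl, smul_smul]
      rw [h3] at h2
      have h4 : (a₀, b * a' * b⁻¹) ∈ stabilizer (↥S × ↥S) x := by
        rw [mem_stabilizer_iff]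
        calc (a₀, b * a' * b⁻¹) • x = ((1 : ↥S), b) • (a₀, a') • ((1 : ↥S), b⁻¹) • x := by
              simp [smul_smul, mul_assoc]
          _ = x := by rw [h2]; simp [show ((1 : ↥S), (1 : ↥S)) = 1 from rfl, smul_smul]
      have h5 := congrArg Prod.snd ((H90.IsTw.eq_of_fst (D.tw x) h4
        (show (a₀, a') ∈ stabilizer (↥S × ↥S) x from ha') rfl))
      have h6 : φ ⟨(a : Ω), hQsrc a.2⟩ = (a' : Ω) := hφK (a₀, a') ha'
      show (H90.res φ hQsrc a) * (b : Ω) = (b : Ω) * (H90.res φ hQsrc a)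
      rw [show H90.res φ hQsrc a = (a' : Ω) from h6]
      have h7 : b * a' = a' * b := by
        calc b * a' = b * a' * b⁻¹ * b := by group
          _ = a' * b := by rw [show b * a' * b⁻¹ = a' from h5]
      exact (congrArg Subtype.val h7).symm)
  let d : X → ZMod p := fun x => if Quotient.mk (rrel ↥S X) x ∈ Z then m x - m₀ x else 0
  have hd : RInv ↥S d := by
    intro b x
    show (if _ then _ else _) = (if _ then _ else _)
    have hq : Quotient.mk (rrel ↥S X) (((1 : ↥S), b) • x) = Quotient.mk (rrel ↥S X) x :=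
      (Quotient.sound (s := rrel ↥S X) ⟨b, rfl⟩).symm
    by_cases hx : Quotient.mk (rrel ↥S X) x ∈ Z
    · rw [hq, if_pos hx, if_pos hx, D.isLabel]
      have h1 := hm₀ x hx (b, 1)
      rw [show ρ (b, 1) x = ((1 : ↥S), b) • x from rfl] at h1
      rw [h1]; abel
    · rw [hq, if_neg hx, if_neg hx]
  have key : ∀ q ∈ Z, m (g q.out) - m q.out = d (g q.out) - d q.out := by
    intro q hq
    have h1 : Quotient.mk (rrel ↥S X) q.out ∈ Z := by rwa [Quotient.out_eq]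
    have h2 : Quotient.mk (rrel ↥S X) (g q.out) ∈ Z := by
      rw [← qperm_mk hg.1]; exact (hZ _).mp h1
    show _ = (if _ then _ else _) - (if _ then _ else _)
    rw [if_pos h1, if_pos h2]
    have h3 := hm₀ q.out h1 (1, ⟨g, Subgroup.mem_zpowers g⟩)
    rw [show ρ (1, ⟨g, Subgroup.mem_zpowers g⟩) q.out = ((1 : ↥S), (1 : ↥S)) • g q.out from rfl,
      Prod.mk_one_one, one_smul] at h3
    rw [h3]
    show _ = _ - (m₀ q.out + μ 1) - _
    rw [D.map_one]; abel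
  rw [Finset.sum_congr rfl key, Finset.sum_sub_distrib, sum_shift_mem hd hg.1 hZ, sub_self]

/-- Two lifts of a map onto a non-free fully centralized subgroup have the same degree. -/
theorem deg_eq_of_intw [Finite X] {P : Subgroup Ω} {φ : ↥P →* Ω} (hφ : φ ∈ F.Hom P)
    (hQ : F.IsFullyCentralized φ.range) (hfree : ¬ D.Free φ.range) {θ θ' : Equiv.Perm X}
    (h : Intw S φ θ) (h' : Intw S φ θ') : deg (G := ↥S) m θ = deg (G := ↥S) m θ' := by
  obtain ⟨ψ, hψ, hψe⟩ := F.inv_mem hφ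
  have h1 : Intw S φ.range.subtype (θ * θ'⁻¹) := by
    refine (h'.inv (F.le_of_mem hφ).1 hψe).comp h (R := P) ?_ (fun x => (F.le_of_mem hψ).2 x) ?_
    · rintro ⟨_, x, rfl⟩
      rw [hψe x]; exact x.2
    · rintro ⟨_, x, rfl⟩
      show φ x = φ _
      exact congrArg φ (Subtype.ext (hψe x).symm)
  have h2 := D.deg_eq_zero_of_not_free hQ hfree h1
  rwa [deg_mul D.isLabel h.1 h'.1.inv, deg_inv D.isLabel h'.1, ← sub_eq_add_neg, sub_eq_zero] at h2

theorem mem_autGroup_sub {Q : Subgroup Ω} (hQM : Q ≤ D.ker) {α : MulAut ↥Q} :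
    α ∈ D.sub.autGroup Q ↔ α ∈ F.autGroup Q ∧
      ∃ θ : Equiv.Perm X, Intw S (Q.subtype.comp α.toMonoidHom) θ ∧ deg (G := ↥S) m θ = 0 := by
  haveI : Finite ↥D.ker := finite_of_le D.ker_le
  constructor
  · intro h
    obtain ⟨hF, -, -, hθ⟩ := H90.hom_of_aut_mem D.sub hQM h
    exact ⟨H90.aut_mem_of_hom F hF, hθ⟩
  · rintro ⟨hF, hθ⟩
    exact H90.aut_mem_of_hom D.sub
      ⟨H90.hom_of_aut_mem F (hQM.trans D.ker_le) hF, hQM, fun x => hQM (α x).2, hθ⟩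

theorem isFullyAutomized_sub [Finite X] {Q : Subgroup Ω} (hQM : Q ≤ D.ker)
    (hQ : F.IsFullyNormalized Q) : D.sub.IsFullyAutomized p Q := by
  have hQc := isFullyCentralized_of_isFullyNormalized D.isPGroup D.sat hQ
  have hQS : Q ≤ S := hQ.1
  haveI : Finite ↥D.ker := finite_of_le D.ker_le
  refine (FusionSys.isFullyAutomized_iff (D.isPGroup.to_le D.ker_le)).mpr ⟨hQM, fun hdvd => ?_⟩
  haveI := finite_autGroup F hQS
  obtain ⟨-, R, hR⟩ := isFullyAutomized_of_isFullyNormalized D.isPGroup D.sat hQ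
  set A := (D.sub.autGroup Q).subgroupOf (F.autGroup Q) with hA
  haveI hAn : A.Normal := by
    refine ⟨fun α hα β => ?_⟩
    obtain ⟨hαF, θ, hθ, hθ0⟩ := (D.mem_autGroup_sub hQM).mp hα
    have hβ := H90.hom_of_aut_mem F hQS β.2
    obtain ⟨θ', hθ'⟩ := D.lift Q _ hβ
    have hβi := H90.hom_of_aut_mem F hQS (Subgroup.inv_mem _ β.2)
    have hi : Intw S (Q.subtype.comp ((β : MulAut ↥Q)⁻¹).toMonoidHom) θ'⁻¹ := by
      refine ⟨hθ'.1.inv, fun a a' ha he => ?_⟩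
      have h1 : (β : MulAut ↥Q) ⟨a', (show (a' : Ω) ∈ Q from he ▸ ((β : MulAut ↥Q)⁻¹ ⟨a, ha⟩).2)⟩ =
          ⟨a, ha⟩ := by
        rw [show (⟨(a' : Ω), (show (a' : Ω) ∈ Q from he ▸ ((β : MulAut ↥Q)⁻¹ ⟨a, ha⟩).2)⟩ : ↥Q) =
          (β : MulAut ↥Q)⁻¹ ⟨a, ha⟩ from Subtype.ext he.symm]
        exact (β : MulAut ↥Q).apply_symm_apply _
      have h2 := hθ'.2 a' a _ (congrArg Subtype.val h1)
      rw [inv_mul_eq_iff_eq_mul, ← mul_assoc, h2, mul_inv_cancel_right]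
    show ((β * α * β⁻¹ : F.autGroup Q) : MulAut ↥Q) ∈ D.sub.autGroup Q
    refine (D.mem_autGroup_sub hQM).mpr ⟨(β * α * β⁻¹).2, θ' * θ * θ'⁻¹, ?_, ?_⟩
    · refine hi.comp (hθ.comp hθ' (R := Q) (fun x => ((α : MulAut ↥Q) x).2)
        (fun x => hQS ((α : MulAut ↥Q) x).2)
        (χ := Q.subtype.comp ((β : MulAut ↥Q) * (α : MulAut ↥Q)).toMonoidHom) fun _ => rfl)
        (R := Q) (fun x => (((β : MulAut ↥Q)⁻¹) x).2) (fun x => hQS (((β : MulAut ↥Q)⁻¹) x).2)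
        fun _ => rfl
    · rw [deg_mul D.isLabel (hθ'.1.mul hθ.1) hθ'.1.inv, deg_mul D.isLabel hθ'.1 hθ.1,
        deg_inv D.isLabel hθ'.1, hθ0]
      abel
  have hle : autInducedBy S Q ⊓ D.sub.autGroup Q ≤ autInducedBy D.ker Q := by
    rintro α ⟨hα1, hα2⟩
    obtain ⟨g, hg, hgα⟩ := (H90.mem_autInducedBy_iff hQS).mp hα1
    obtain ⟨-, θ, hθ, hθ0⟩ := (D.mem_autGroup_sub hQM).mp hα2
    refine (H90.mem_autInducedBy_iff hQM).mpr ?_
    by_cases hfree : D.Free Q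
    · obtain ⟨c, hc, hc0⟩ := hfree
      obtain ⟨n, hn⟩ := D.exists_shift hc0 (deg (G := ↥S) m (T (X := X) (⟨g, hg⟩, 1)))
      refine ⟨g * (c : Ω) ^ n, D.mem_ker.mpr ⟨S.mul_mem hg (S.pow_mem c.2 n), ?_⟩, fun x => ?_⟩
      · rw [← D.deg_T_eq_zero]
        rw [← deg_mul D.isLabel (rcomm_T _) (rcomm_T _), T, T, ← _root_.map_mul, Prod.mk_mul_mk,
          one_mul] at hn
        exact hn
      · rw [hgα x]
        have h2 : (c : Ω) ^ n * (x : Ω) = (x : Ω) * (c : Ω) ^ n :=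
          ((Commute.symm ((mem_centralizerIn.mp hc).2 (x : Ω) x.2 : Commute (x : Ω) (c : Ω))).pow_left n).eq
        calc g * (x : Ω) * g⁻¹ = g * ((x : Ω) * (c : Ω) ^ n) * ((c : Ω) ^ n)⁻¹ * g⁻¹ := by group
          _ = _ := by rw [← h2]; group
    · refine ⟨g, D.mem_ker.mpr ⟨hg, ?_⟩, hgα⟩
      rw [← D.deg_T_eq_zero, ← hθ0]
      have hr : (Q.subtype.comp α.toMonoidHom).range = Q := by
        refine le_antisymm ?_ fun x hx => ⟨α⁻¹ ⟨x, hx⟩, congrArg Subtype.val (α.apply_symm_apply _)⟩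
        rintro _ ⟨x, rfl⟩
        exact (α x).2
      refine D.deg_eq_of_intw (H90.hom_of_aut_mem F hQS ((H90.autInducedBy_le F hQS) hα1))
        (by rw [hr]; exact hQc) (by rw [hr]; exact hfree) (intw_conj ⟨g, hg⟩ fun x => hgα x) hθ
  have hAle : D.sub.autGroup Q ≤ F.autGroup Q := fun α hα => ((D.mem_autGroup_sub hQM).mp hα).1
  have h1 : (autInducedBy D.ker Q).relIndex (D.sub.autGroup Q) ∣
      (autInducedBy S Q).relIndex (D.sub.autGroup Q) := by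
    rw [← Subgroup.inf_relIndex_right (autInducedBy S Q)]
    exact Subgroup.relIndex_dvd_of_le_left _ hle
  have h2 : (autInducedBy S Q).relIndex (D.sub.autGroup Q) = (R : Subgroup _).relIndex A := by
    rw [hR, hA, Subgroup.relIndex_subgroupOf hAle]
  exact H41.not_dvd_relIndex_sylow R A (h2 ▸ hdvd.trans h1)

theorem isReceptive_sub [Finite X] {Q : Subgroup Ω} (hQM : Q ≤ D.ker)
    (hQ : F.IsFullyNormalized Q) : D.sub.IsReceptive Q := by
  have hQc := isFullyCentralized_of_isFullyNormalized D.isPGroup D.sat hQ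
  refine ⟨hQM, fun P φ hφ hr => ?_⟩
  obtain ⟨hφF, hPM, -, θ, hθ, hθ0⟩ := hφ
  obtain ⟨ψ, hψ, hψe⟩ := (receptive_of_isFullyNormalized D.isPGroup D.sat hQ).2 P φ hφF hr
  set N := extender D.ker P φ with hN
  have hNS : N ≤ extender S P φ := Subgroup.closure_mono fun g ⟨h1, h2, h, h3, h4⟩ =>
    ⟨D.ker_le h1, h2, h, D.ker_le h3, h4⟩
  have hNM : N ≤ D.ker := (Subgroup.closure_le _).mpr fun g hg => hg.1
  have hψ' := H90.res_mem F hψ hNS
  obtain ⟨η, hη⟩ := D.lift N _ hψ'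
  by_cases hfree : D.Free Q
  · obtain ⟨c, hc, hc0⟩ := hfree
    obtain ⟨n, hn⟩ := D.exists_shift hc0 (deg (G := ↥S) m η)
    have hcn : ∀ x : ↥N, H90.res ψ hNS x ∈ S := fun x => (F.le_of_mem hψ').2 x
    set χ := (conjHom S ((c : Ω) ^ n)).comp ((H90.res ψ hNS).codRestrict S hcn) with hχdef
    have hχ : χ ∈ F.Hom N := F.comp_mem hψ' (F.conj_mem le_rfl (S.pow_mem c.2 n)) hcn
    have hint : Intw S χ (T (c ^ n, (1 : ↥S)) * η) := by
      refine hη.comp (intw_conj (X := X) (c ^ n) (P := S) (φ := conjHom S ((c : Ω) ^ n))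
        fun x => ?_) hcn hcn fun _ => rfl
      rw [SubmonoidClass.coe_pow]; rfl
    refine ⟨χ, ⟨hχ, hNM, fun x => D.map_mem_ker hNM hχ x, _, hint, ?_⟩, fun x hx hxN => ?_⟩
    · rw [deg_mul D.isLabel (rcomm_T _) hη.1, add_comm]; exact hn
    · show (c : Ω) ^ n * ψ (Subgroup.inclusion hNS ⟨x, hxN⟩) * ((c : Ω) ^ n)⁻¹ = _
      rw [show ψ (Subgroup.inclusion hNS ⟨x, hxN⟩) = φ ⟨x, hx⟩ from hψe x hx (hNS hxN)]
      have h2 : Commute ((c : Ω) ^ n) (φ ⟨x, hx⟩) :=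
        (Commute.symm ((mem_centralizerIn.mp hc).2 _ (hr ▸ ⟨_, rfl⟩) : Commute (φ ⟨x, hx⟩) (c : Ω))).pow_left n
      rw [h2.eq, mul_inv_cancel_right]
  · refine ⟨H90.res ψ hNS, ⟨hψ', hNM, fun x => D.map_mem_ker hNM hψ' x, η, hη, ?_⟩,
      fun x hx hxN => hψe x hx (hNS hxN)⟩
    have hPN : P ≤ N := fun x hx => Subgroup.subset_closure ⟨hPM hx, Subgroup.le_normalizer hx,
      φ ⟨x, hx⟩, hQM (hr ▸ ⟨_, rfl⟩), fun y hy => by
        rw [show (⟨x * (y : Ω) * x⁻¹, hy⟩ : ↥P) = ⟨x, hx⟩ * y * ⟨x, hx⟩⁻¹ from Subtype.ext rfl,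
          _root_.map_mul, _root_.map_mul, _root_.map_inv]⟩
    rw [← hθ0]
    refine D.deg_eq_of_intw hφF (hr.symm ▸ hQc) (hr.symm ▸ hfree)
      (hη.mono hPN fun x => ?_) hθ
    exact (hψe x x.2 (hNS (hPN x.2))).symm

theorem isSaturated_sub [Finite X] : D.sub.IsSaturated p := by
  intro P hP
  have hPS : P ≤ S := hP.trans D.ker_le
  obtain ⟨Q₀, ⟨φ, hφ, rfl⟩, hQ₀⟩ := exists_isFullyNormalized F hPS
  obtain ⟨θ, hθ⟩ := D.lift P φ hφ
  obtain ⟨s, hs⟩ := D.surj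
  obtain ⟨n, hn⟩ := D.exists_shift hs (deg (G := ↥S) m θ)
  set χ := (conjHom S ((s : Ω) ^ n)).comp (φ.codRestrict S (F.le_of_mem hφ).2) with hχdef
  have hχ : χ ∈ F.Hom P := F.comp_mem hφ (F.conj_mem le_rfl (S.pow_mem s.2 n)) (F.le_of_mem hφ).2
  have hint : Intw S χ (T (s ^ n, (1 : ↥S)) * θ) := by
    refine hθ.comp (intw_conj (X := X) (s ^ n) (P := S) (φ := conjHom S ((s : Ω) ^ n))
      fun x => ?_) (F.le_of_mem hφ).2 (F.le_of_mem hφ).2 fun _ => rfl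
    rw [SubmonoidClass.coe_pow]; rfl
  have hsub : χ ∈ D.sub.Hom P := ⟨hχ, hP, fun x => D.map_mem_ker hP hχ x, _, hint, by
    rw [deg_mul D.isLabel (rcomm_T _) hθ.1, add_comm]; exact hn⟩
  have hQM : χ.range ≤ D.ker := fun y ⟨x, hx⟩ => hx ▸ D.map_mem_ker hP hχ x
  have hQ : F.IsFullyNormalized χ.range := by
    refine ⟨hQM.trans D.ker_le, fun R hR => ?_⟩
    have h1 := hQ₀.2 R (isConj_trans (isConj_trans (isConj_symm ⟨φ, hφ, rfl⟩) ⟨χ, hχ, rfl⟩) hR)
    refine h1.trans ?_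
    set k : Ω := (s : Ω) ^ n
    have hk : k ∈ S := S.pow_mem s.2 n
    have hmap : (φ.range).map (MulAut.conj k).toMonoidHom = χ.range := by
      ext y
      constructor
      · rintro ⟨_, ⟨x, rfl⟩, rfl⟩; exact ⟨x, rfl⟩
      · rintro ⟨x, rfl⟩; exact ⟨φ x, ⟨x, rfl⟩, rfl⟩
    rw [← hmap, ← Subgroup.card_map_of_injective (f := (MulAut.conj k).toMonoidHom)
      (MulAut.conj k).injective (K := normalizerIn S φ.range)]
    haveI := finite_of_le (S := S)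
      (P := normalizerIn S ((φ.range).map (MulAut.conj k).toMonoidHom)) normalizerIn_le
    refine Nat.card_le_card_of_injective (Subgroup.inclusion ?_) (Subgroup.inclusion_injective _)
    rintro _ ⟨y, ⟨hyS, hyn⟩, rfl⟩
    exact ⟨S.mul_mem (S.mul_mem hk hyS) (S.inv_mem hk),
      (Subgroup.map_equiv_normalizer_eq φ.range (MulAut.conj k)).le ⟨y, hyn, rfl⟩⟩
  exact ⟨χ.range, ⟨χ, hsub, rfl⟩, D.isFullyAutomized_sub hQM hQ, D.isReceptive_sub hQM hQ⟩

theorem pResidual_le_sub {P : Subgroup Ω} (hP : P ≤ D.ker) :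
    (pResidual p (F.autGroup P)).map (F.autGroup P).subtype ≤ D.sub.autGroup P := by
  haveI := finite_autGroup F (hP.trans D.ker_le)
  rw [Subgroup.map_le_iff_le_comap]
  refine (Subgroup.closure_le _).mpr fun α hα => ?_
  have hα' : Nat.Coprime (orderOf α) p := hα
  obtain ⟨θ, hθ⟩ := D.lift P _ (H90.hom_of_aut_mem F (hP.trans D.ker_le) α.2)
  obtain ⟨k, hk1, hk2⟩ := Nat.chineseRemainder hα' 1 0
  refine (D.mem_autGroup_sub hP).mpr ⟨α.2, θ ^ k, ?_, ?_⟩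
  · have hpow : ∀ i : ℕ, Intw S (P.subtype.comp ((α : MulAut ↥P) ^ i).toMonoidHom) (θ ^ i) := by
      intro i
      induction i with
      | zero =>
        refine ⟨RComm.one, fun a a' ha he => ?_⟩
        rw [show a' = a from Subtype.ext he.symm, pow_zero, one_mul, mul_one]
      | succ i ih =>
        rw [pow_succ θ]
        refine hθ.comp ih (R := P) (fun x => ((α : MulAut ↥P) x).2)
          (fun x => (hP.trans D.ker_le) ((α : MulAut ↥P) x).2) fun x => ?_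
        show (((α : MulAut ↥P) ^ (i + 1)) x : Ω) = (((α : MulAut ↥P) ^ i) ((α : MulAut ↥P) x) : Ω)
        rw [pow_succ]; rfl
    have hαk : (α : MulAut ↥P) ^ k = (α : MulAut ↥P) := by
      conv_rhs => rw [← pow_one (α : MulAut ↥P)]
      rw [pow_eq_pow_iff_modEq, Subgroup.orderOf_coe]
      exact hk1
    have := hpow k
    rwa [hαk] at this
  · rw [(deg_pow D.isLabel hθ.1 k).2, nsmul_eq_mul,
      show (k : ZMod p) = 0 from (ZMod.natCast_eq_zero_iff k p).mpr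
        (Nat.modEq_zero_iff_dvd.mp hk2), zero_mul]

theorem hasPPowerIndex (hhyp : F.hyperfocalSubgroup p ≤ D.ker) :
    D.sub.HasPPowerIndexIn F p :=
  ⟨D.sub_le, hhyp, fun _ hP => D.pResidual_le_sub hP⟩

end Good

end Cfsg.Agent.Fusion.PPower
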