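import Cfsg.Agent.Fusion.PPower.Exists

/-!
# Subsystems of `p`-power index over normal subgroups are normal
-/

set_option autoImplicit false
set_option linter.style.haveILetI false
set_option linter.unusedSectionVars false

namespace Cfsg.Agent.Fusion.PPower

open Cfsg Cfsg.FusionSystem Cfsg.Agent.FusionSys

universe u

variable {Ω : Type u} [Group Ω] {S T : Subgroup Ω}

/-- The image of `P` under an automorphism of `T`. -/
abbrev aimg (α : MulAut ↥T) (P : Subgroup Ω) : Subgroup Ω :=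
  (P.subgroupOf T).map (T.subtype.comp α.toMonoidHom)

theorem mem_aimg {α : MulAut ↥T} {P : Subgroup Ω} {x : ↥T} (hx : (x : Ω) ∈ P) :
    ((α x : ↥T) : Ω) ∈ aimg α P :=
  ⟨x, hx, rfl⟩

theorem aimg_le (α : MulAut ↥T) (P : Subgroup Ω) : aimg α P ≤ T := by
  rintro _ ⟨x, -, rfl⟩
  exact (α x).2

/-- The pullback of a system on `T` along an automorphism of `T`. -/
def pull (E : FusionSystem T) (α : MulAut ↥T) : FusionSystem T where
  Hom P := {φ | P ≤ T ∧ (∀ x, φ x ∈ T) ∧ ∃ χ ∈ E.Hom (aimg α P),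
    ∀ (x : ↥P) (hx : (x : Ω) ∈ T) (hφ : φ x ∈ T),
      χ ⟨(α ⟨x, hx⟩ : ↥T), mem_aimg x.2⟩ = ((α ⟨φ x, hφ⟩ : ↥T) : Ω)}
  le_of_mem h := ⟨h.1, h.2.1⟩
  injective_of_mem {P φ} := by
    rintro ⟨hP, hT, χ, hχ, he⟩ a b hab
    have h1 := he a (hP a.2) (hT a)
    have h2 := he b (hP b.2) (hT b)
    have h3 : (⟨φ a, hT a⟩ : ↥T) = ⟨φ b, hT b⟩ := Subtype.ext hab
    rw [h3, ← h2] at h1
    have h4 := congrArg Subtype.val (E.injective_of_mem hχ h1)
    exact Subtype.ext (congrArg Subtype.val (α.injective (Subtype.ext h4)) :)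
  conj_mem {P g} hP hg := by
    refine ⟨hP, fun x => T.mul_mem (T.mul_mem hg (hP x.2)) (T.inv_mem hg), _,
      E.conj_mem (aimg_le α P) (α ⟨g, hg⟩).2, fun x hx hφ => ?_⟩
    rw [show (⟨conjHom P g x, hφ⟩ : ↥T) = ⟨g, hg⟩ * ⟨x, hx⟩ * ⟨g, hg⟩⁻¹ from Subtype.ext rfl,
      map_mul, map_mul, map_inv]
    rfl
  comp_mem {P Q φ ψ} := by
    rintro ⟨hP, hφT, χ, hχ, he⟩ ⟨hQ, hψT, ω, hω, hf⟩ h
    have hm : ∀ y, χ y ∈ aimg α Q := by
      rintro ⟨_, x, hx, rfl⟩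
      have := he ⟨x, hx⟩ x.2 (hφT _)
      refine (congrArg (fun z => z ∈ aimg α Q) ?_).mp (mem_aimg (α := α) (x := ⟨φ ⟨x, hx⟩, hφT _⟩) (h _))
      exact this.symm
    refine ⟨hP, fun x => hψT _, _, H90.comp₂_mem E hχ hω hm, fun x hx hψ => ?_⟩
    rw [H90.comp₂_apply]
    refine Eq.trans ?_ (hf ⟨φ x, h x⟩ (hφT x) hψ)
    exact congrArg ω (Subtype.ext (he x hx (hφT x)))
  inv_mem {P φ} := by
    rintro ⟨hP, hφT, χ, hχ, he⟩
    obtain ⟨ω, hω, hf⟩ := E.inv_mem hχ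
    have hle : aimg α φ.range ≤ χ.range := by
      rintro _ ⟨y, ⟨x, hx⟩, rfl⟩
      refine ⟨⟨_, mem_aimg (α := α) (x := ⟨x, hP x.2⟩) x.2⟩, ?_⟩
      rw [he x (hP x.2) (hφT x)]
      exact congrArg (fun z : ↥T => ((α z : ↥T) : Ω)) (Subtype.ext hx)
    have hinj : Function.Injective φ := by
      intro a b hab
      have h1 := he a (hP a.2) (hφT a)
      have h3 : (⟨φ a, hφT a⟩ : ↥T) = ⟨φ b, hφT b⟩ := Subtype.ext hab
      rw [h3, ← he b (hP b.2) (hφT b)] at h1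
      have h4 := congrArg Subtype.val (E.injective_of_mem hχ h1)
      exact Subtype.ext (congrArg Subtype.val (α.injective (Subtype.ext h4)) :)
    refine ⟨P.subtype.comp (MonoidHom.ofInjective hinj).symm.toMonoidHom,
      ⟨?_, fun y => hP (((MonoidHom.ofInjective hinj).symm y).2), _, H90.res_mem E hω hle,
        fun y hy hψ => ?_⟩, fun x => congrArg Subtype.val ((MonoidHom.ofInjective hinj).symm_apply_apply x)⟩
    · rintro _ ⟨x, rfl⟩
      exact hφT x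
    · rw [H90.res_apply]
      obtain ⟨x, rfl⟩ := (MonoidHom.ofInjective hinj).surjective y
      have h1 : χ ⟨_, mem_aimg (α := α) (x := ⟨x, hP x.2⟩) x.2⟩ = ((α ⟨φ x, hy⟩ : ↥T) : Ω) :=
        he x (hP x.2) hy
      refine Eq.trans ?_ ((hf ⟨_, mem_aimg (α := α) (x := ⟨x, hP x.2⟩) x.2⟩).trans ?_)
      · exact congrArg ω (Subtype.ext h1.symm)
      refine congrArg (fun z : ↥T => ((α z : ↥T) : Ω)) (Subtype.ext ?_)
      exact (congrArg Subtype.val ((MonoidHom.ofInjective hinj).symm_apply_apply x)).symm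

variable [Finite S] {p : ℕ} [Fact p.Prime]

/-- Invariance under the automorphisms of `T`. -/
theorem le_pull (hS : IsPGroup p S) {F : FusionSystem S} (hTS : T ≤ S) {E : FusionSystem T}
    (hE : E.IsSaturated p) (hi : E.HasPPowerIndexIn F p) {α : MulAut ↥T}
    (hα : α ∈ F.autGroup T) : E.IsSubsystemOf (pull E α) := by
  haveI := finite_of_le hTS
  refine H90.PPC.main hS hTS hE hi.1 le_rfl fun P hP => ?_
  rintro _ ⟨β, hβ, rfl⟩
  have hA := H90.res_mem F (H90.hom_of_aut_mem F hTS hα) hP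
  set A := H90.res (T.subtype.comp α.toMonoidHom) hP with hAdef
  have hm : H90.autEquiv F hA β ∈ pResidual p ↥(F.autGroup A.range) :=
    Fusion.map_pResidual_le (H90.autEquiv F hA).toMonoidHom ⟨β, hβ, rfl⟩
  have hAT : A.range ≤ T := by
    rintro _ ⟨x, rfl⟩
    exact (α _).2
  have hle : aimg α P ≤ A.range := by
    rintro _ ⟨x, hx, rfl⟩
    exact ⟨⟨x, hx⟩, rfl⟩
  have hχ := H90.res_mem E
    (H90.hom_of_aut_mem E hAT (hi.2.2 _ hAT ⟨_, hm, rfl⟩)) hle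
  refine H90.aut_mem_of_hom (pull E α) ⟨hP, fun x => hP ((β : MulAut ↥P) x).2, _, hχ,
    fun x hx hφ => ?_⟩
  rw [H90.res_apply]
  have h1 : (⟨((α ⟨x, hx⟩ : ↥T) : Ω), hle (mem_aimg x.2)⟩ : ↥A.range) = H90.imgEquiv F hA x :=
    Subtype.ext rfl
  show (((H90.autEquiv F hA β : MulAut ↥A.range) _ : ↥A.range) : Ω) = _
  rw [h1]
  show ((H90.imgEquiv F hA ((β : MulAut ↥P) ((H90.imgEquiv F hA).symm (H90.imgEquiv F hA x)))) : Ω) = _
  rw [MulEquiv.symm_apply_apply]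
  rfl

theorem conj_invariant (hS : IsPGroup p S) {F : FusionSystem S} (hTS : T ≤ S)
    (hTn : ∀ g ∈ S, ∀ x ∈ T, g * x * g⁻¹ ∈ T) {E : FusionSystem T} (hE : E.IsSaturated p)
    (hi : E.HasPPowerIndexIn F p) {g : Ω} (hg : g ∈ S) {P R : Subgroup Ω} {φ : ↥P →* Ω}
    (hφ : φ ∈ E.Hom P) (hR : ∀ x ∈ R, g⁻¹ * x * g ∈ P) :
    ∃ χ ∈ E.Hom R, ∀ x : ↥R, χ x = g * φ ⟨g⁻¹ * x * g, hR x x.2⟩ * g⁻¹ := by
  haveI := finite_of_le hTS
  have hn : g ∈ Subgroup.normalizer (T : Set Ω) := H90.normal_of_conj (hTn g hg)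
  obtain ⟨-, -, χ, hχ, he⟩ :=
    le_pull hS hTS hE hi (H90.normAut_mem_aut F hTS hg hn) P hφ
  have hmem : ∀ x ∈ R, g⁻¹ * x * g ∈ T := fun x hx => (E.le_of_mem hφ).1 (hR x hx)
  have hval : ∀ x : ↥R, ((H90.normAut T g hn ⟨g⁻¹ * x * g, hmem x x.2⟩ : ↥T) : Ω) = x := fun x => by
    rw [H90.normAut_coe]
    group
  have hle : R ≤ aimg (H90.normAut T g hn) P := fun x hx =>
    ⟨⟨g⁻¹ * x * g, hmem x hx⟩, hR x hx, hval ⟨x, hx⟩⟩
  refine ⟨_, H90.res_mem E hχ hle, fun x => ?_⟩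
  rw [H90.res_apply]
  refine Eq.trans (congrArg χ (Subtype.ext (hval x).symm))
    (he ⟨g⁻¹ * x * g, hR x x.2⟩ (hmem x x.2) ((E.le_of_mem hφ).2 _))

theorem stronglyClosed (hS : IsPGroup p S) {F : FusionSystem S} (hF : F.IsSaturated p)
    (hTS : T ≤ S) (hTn : ∀ g ∈ S, ∀ x ∈ T, g * x * g⁻¹ ∈ T)
    (hT : F.hyperfocalSubgroup p ≤ T) : F.StronglyClosed T := by
  refine ⟨hTS, fun R hR φ hφ x => ?_⟩
  obtain ⟨θ, hθ, h⟩ := H90.exists_modInner hS hF R φ hφ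
  have := T.mul_mem (hTn θ hθ x (hR x.2)) (hT (h x))
  rwa [mul_inv_cancel_left] at this

/-- Restriction of automorphisms to the part inside a strongly closed subgroup. -/
theorem exists_restrict {F : FusionSystem S} (hsc : F.StronglyClosed T) {R : Subgroup Ω}
    (hR : R ≤ S) : ∃ r : ↥(F.autGroup R) →* ↥(F.autGroup (R ⊓ T)), ∀ (a : ↥(F.autGroup R))
      (x : ↥(R ⊓ T)), (((r a : MulAut ↥(R ⊓ T)) x : ↥(R ⊓ T)) : Ω) =
        ((a : MulAut ↥R) ⟨x, x.2.1⟩ : Ω) := by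
  have hmem : ∀ a : ↥(F.autGroup R),
      H90.res (R.subtype.comp (a : MulAut ↥R).toMonoidHom) (inf_le_left : R ⊓ T ≤ R) ∈ F.Hom (R ⊓ T) :=
    fun a => H90.res_mem F (H90.hom_of_aut_mem F hR a.2) _
  have hv : ∀ (a : ↥(F.autGroup R)) (x : ↥(R ⊓ T)),
      H90.res (R.subtype.comp (a : MulAut ↥R).toMonoidHom) (inf_le_left : R ⊓ T ≤ R) x ∈ R ⊓ T :=
    fun a x => ⟨((a : MulAut ↥R) _).2, hsc.2 _ inf_le_right _ (hmem a) x⟩
  exact ⟨MonoidHom.mk' (fun a => ⟨H90.toAut F (hmem a) (hv a), H90.toAut_mem F (hmem a) (hv a)⟩)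
    (fun a b => Subtype.ext (MulEquiv.ext fun x => Subtype.ext rfl)), fun a x => rfl⟩

/-- The Frattini decomposition. -/
theorem frattini (hS : IsPGroup p S) {F : FusionSystem S} (hF : F.IsSaturated p)
    (hTS : T ≤ S) (hTn : ∀ g ∈ S, ∀ x ∈ T, g * x * g⁻¹ ∈ T) {E : FusionSystem T}
    (hE : E.IsSaturated p) (hi : E.HasPPowerIndexIn F p) :
    ∀ (P : Subgroup Ω) (φ : ↥P →* Ω), φ ∈ F.Hom P → ∃ g ∈ S, ∀ (R : Subgroup Ω) (hR : R ≤ P),
      R ≤ T → ∃ φ₀ ∈ E.Hom R, ∀ x : ↥R, φ ⟨x, hR x.2⟩ = g * φ₀ x * g⁻¹ := by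
  haveI := finite_of_le hTS
  have hsc := stronglyClosed hS hF hTS hTn hi.2.1
  refine H90.induction hS hF (fun P φ => ∃ g ∈ S, ∀ (R : Subgroup Ω) (hR : R ≤ P),
      R ≤ T → ∃ φ₀ ∈ E.Hom R, ∀ x : ↥R, φ ⟨x, hR x.2⟩ = g * φ₀ x * g⁻¹) ⟨?_, ?_, ?_⟩ ?_
  · rintro P R φ - ⟨g, hg, h⟩ hle
    exact ⟨g, hg, fun R' hR' hT' => h R' (hR'.trans hle) hT'⟩
  · rintro P Q φ ψ - - hv ⟨g, hg, h⟩ ⟨η, hη, h'⟩
    refine ⟨η * g, S.mul_mem hη hg, fun R hR hRT => ?_⟩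
    obtain ⟨φ₀, hφ₀, he⟩ := h R hR hRT
    set R₂ := (H90.res φ hR).range with hR₂
    have hR₂Q : R₂ ≤ Q := by
      rintro _ ⟨x, rfl⟩
      exact hv _
    have hR₂T : R₂ ≤ T := by
      rintro _ ⟨x, rfl⟩
      rw [H90.res_apply, he x]
      exact hTn g hg _ ((E.le_of_mem hφ₀).2 x)
    obtain ⟨ψ₀, hψ₀, he'⟩ := h' R₂ hR₂Q hR₂T
    have hpre : ∀ y ∈ φ₀.range, g⁻¹⁻¹ * y * g⁻¹ ∈ R₂ := by
      rintro _ ⟨x, rfl⟩
      refine ⟨x, ?_⟩
      rw [H90.res_apply, he x, inv_inv]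
    obtain ⟨χ, hχ, hc⟩ := conj_invariant hS hTS hTn hE hi (S.inv_mem hg) hψ₀ hpre
    refine ⟨_, H90.comp₂_mem E hφ₀ hχ (fun x => ⟨x, rfl⟩), fun x => ?_⟩
    show ψ ⟨φ ⟨x, hR x.2⟩, hv _⟩ = η * g * χ ⟨φ₀ x, ⟨x, rfl⟩⟩ * (η * g)⁻¹
    rw [hc]
    have h1 : (⟨φ ⟨x, hR x.2⟩, hv _⟩ : ↥Q) = ⟨φ ⟨x, hR x.2⟩, hR₂Q ⟨x, rfl⟩⟩ := rfl
    have h2 := he' ⟨φ ⟨x, hR x.2⟩, ⟨x, rfl⟩⟩
    rw [h1, h2]
    have h3 : (⟨φ ⟨x, hR x.2⟩, ⟨x, rfl⟩⟩ : ↥R₂) = ⟨g⁻¹⁻¹ * φ₀ x * g⁻¹, hpre _ ⟨x, rfl⟩⟩ :=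
      Subtype.ext (by show φ ⟨x, hR x.2⟩ = g⁻¹⁻¹ * φ₀ x * g⁻¹; rw [he x, inv_inv])
    rw [h3]
    group
  · rintro P Q φ ψ hφ hψ hr hl ⟨g, hg, h⟩
    refine ⟨g⁻¹, S.inv_mem hg, fun R hR hRT => ?_⟩
    set R₂ := (H90.res ψ hR).range with hR₂
    have hx : ∀ y : ↥R, ∃ x : ↥P, φ x = y ∧ ψ ⟨y, hR y.2⟩ = x := by
      intro y
      obtain ⟨x, hx⟩ := hr.ge (hR y.2)
      refine ⟨x, hx, ?_⟩
      rw [← hl x (hx ▸ hR y.2)]
      exact congrArg ψ (Subtype.ext hx.symm)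
    have hR₂P : R₂ ≤ P := by
      rintro _ ⟨y, rfl⟩
      obtain ⟨x, -, hy⟩ := hx y
      rw [H90.res_apply, hy]
      exact x.2
    have hR₂T : R₂ ≤ T := by
      rintro _ ⟨y, rfl⟩
      exact hsc.2 R hRT _ (H90.res_mem F hψ hR) y
    obtain ⟨φ₀, hφ₀, he⟩ := h R₂ hR₂P hR₂T
    obtain ⟨ω, hω, hf⟩ := E.inv_mem hφ₀
    have hxy : ∀ y : ↥R, g * φ₀ ⟨ψ ⟨y, hR y.2⟩, ⟨y, rfl⟩⟩ * g⁻¹ = y := fun y => by
      obtain ⟨x, hx1, hx2⟩ := hx y
      rw [← he]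
      exact (congrArg φ (Subtype.ext hx2)).trans hx1
    have hpre : ∀ y ∈ R, g⁻¹ * y * g ∈ φ₀.range := fun y hy => by
      refine ⟨⟨ψ ⟨y, hR hy⟩, ⟨⟨y, hy⟩, rfl⟩⟩, ?_⟩
      conv_rhs => rw [← show _ = y from hxy ⟨y, hy⟩]
      group
    obtain ⟨χ, hχ, hc⟩ := conj_invariant hS hTS hTn hE hi hg hω hpre
    refine ⟨χ, hχ, fun y => ?_⟩
    rw [hc]
    have h1 : (⟨g⁻¹ * y * g, hpre y y.2⟩ : ↥φ₀.range) =
        ⟨φ₀ ⟨ψ ⟨y, hR y.2⟩, ⟨y, rfl⟩⟩, ⟨_, rfl⟩⟩ :=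
      Subtype.ext (by
        show g⁻¹ * (y : Ω) * g = _
        conv_lhs => rw [← hxy y]
        group)
    rw [h1, hf]
    group
  intro R hRS hA _ _ α hα
  haveI := finite_autGroup F hRS
  obtain ⟨W, hW⟩ := hA.2
  have hmem : (⟨α, hα⟩ : ↥(F.autGroup R)) ∈
      pResidual p ↥(F.autGroup R) ⊔ (W : Subgroup ↥(F.autGroup R)) := by
    rw [H90.pResidual_sup_sylow W]
    trivial
  rw [← SetLike.mem_coe, Subgroup.normal_mul, hW] at hmem
  obtain ⟨m, hm, c, hc, hmc⟩ := hmem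
  obtain ⟨g, hg, hgc⟩ := (H90.mem_autInducedBy_iff hRS).1 (Subgroup.mem_subgroupOf.1 hc)
  refine ⟨g, hg, fun R' hR' hR'T => ?_⟩
  obtain ⟨r, hr⟩ := exists_restrict hsc hRS
  have hRT : R ⊓ T ≤ T := inf_le_right
  have hμ := H90.hom_of_aut_mem E hRT
    (hi.2.2 _ hRT ⟨r m, Fusion.map_pResidual_le r ⟨m, hm, rfl⟩, rfl⟩)
  set K := (conjHom R' g).range with hK
  have hKle : K ≤ R ⊓ T := by
    rintro _ ⟨x, rfl⟩
    refine ⟨?_, hTn g hg x (hR'T x.2)⟩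
    show g * (x : Ω) * g⁻¹ ∈ R
    exact (hgc ⟨x, hR' x.2⟩) ▸ ((c : MulAut ↥R) ⟨x, hR' x.2⟩).2
  have hpre : ∀ x ∈ R', g⁻¹⁻¹ * x * g⁻¹ ∈ K := fun x hx => ⟨⟨x, hx⟩, by rw [inv_inv]; rfl⟩
  obtain ⟨χ, hχ, hcv⟩ := conj_invariant hS hTS hTn hE hi (S.inv_mem hg) (H90.res_mem E hμ hKle) hpre
  refine ⟨χ, hχ, fun x => ?_⟩
  rw [hcv, H90.res_apply]
  show (α ⟨x, hR' x.2⟩ : Ω) = g * (g⁻¹ * (((r m : MulAut ↥(R ⊓ T)) _ : ↥(R ⊓ T)) : Ω) * g⁻¹⁻¹) * g⁻¹
  rw [hr, show α = ((m * c : ↥(F.autGroup R)) : MulAut ↥R) from congrArg Subtype.val hmc.symm]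
  have hgr : ∀ z : Ω, g * (g⁻¹ * z * g⁻¹⁻¹) * g⁻¹ = z := fun z => by group
  rw [hgr]
  show (((m : MulAut ↥R) ((c : MulAut ↥R) ⟨x, hR' x.2⟩) : ↥R) : Ω) = _
  refine congrArg (fun z => (((m : MulAut ↥R) z : ↥R) : Ω)) (Subtype.ext ?_)
  rw [hgc]
  show g * (x : Ω) * g⁻¹ = g⁻¹⁻¹ * x * g⁻¹
  rw [inv_inv]

/-- The extension condition. -/
theorem extension (hS : IsPGroup p S) {F : FusionSystem S} (hF : F.IsSaturated p)
    (hTS : T ≤ S) (hTn : ∀ g ∈ S, ∀ x ∈ T, g * x * g⁻¹ ∈ T) {E : FusionSystem T}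
    (hE : E.IsSaturated p) (hi : E.HasPPowerIndexIn F p) {α : MulAut ↥T}
    (hα : α ∈ E.autGroup T) :
    ∃ β ∈ F.autGroup (T ⊔ centralizerIn S T),
      (∀ x : ↥T, ((β (Subgroup.inclusion le_sup_left x) : ↥(T ⊔ centralizerIn S T)) : Ω) =
        ((α x : ↥T) : Ω)) ∧
      ∀ c : ↥(T ⊔ centralizerIn S T), (c : Ω) ∈ centralizerIn S T →
        (c : Ω)⁻¹ * ((β c : ↥(T ⊔ centralizerIn S T)) : Ω) ∈
          T ⊓ Subgroup.centralizer (T : Set Ω) := by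
  haveI := finite_of_le hTS
  set U := T ⊔ centralizerIn S T with hU
  have hUS : U ≤ S := sup_le hTS centralizerIn_le
  haveI := finite_of_le hUS
  haveI := finite_autGroup F hUS
  -- the automorphisms with such an extension form a submonoid
  let G : Submonoid (MulAut ↥T) :=
    { carrier := {α | ∃ β ∈ F.autGroup U,
        (∀ x : ↥T, ((β (Subgroup.inclusion le_sup_left x) : ↥U) : Ω) = ((α x : ↥T) : Ω)) ∧
        ∀ c : ↥U, (c : Ω) ∈ centralizerIn S T →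
          (c : Ω)⁻¹ * ((β c : ↥U) : Ω) ∈ T ⊓ Subgroup.centralizer (T : Set Ω)}
      one_mem' := ⟨1, one_mem _, fun x => rfl, fun c _ => by
        show (c : Ω)⁻¹ * (c : Ω) ∈ _
        rw [inv_mul_cancel]
        exact one_mem _⟩
      mul_mem' := by
        rintro a b ⟨β, hβ, h1, h2⟩ ⟨γ, hγ, h3, h4⟩
        refine ⟨β * γ, mul_mem hβ hγ, fun x => ?_, fun c hc => ?_⟩
        · show ((β (γ (Subgroup.inclusion le_sup_left x)) : ↥U) : Ω) = _
          rw [show γ (Subgroup.inclusion le_sup_left x) = Subgroup.inclusion le_sup_left (b x) from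
            Subtype.ext (h3 x), h1]
          rfl
        · obtain ⟨h5, h6⟩ := h4 c hc
          have hγc : ((γ c : ↥U) : Ω) ∈ centralizerIn S T := by
            refine mem_centralizerIn.mpr ⟨hUS (γ c).2, fun t ht => ?_⟩
            have e1 : ((γ c : ↥U) : Ω) = (c : Ω) * ((c : Ω)⁻¹ * ((γ c : ↥U) : Ω)) := by group
            rw [e1]
            exact (Commute.mul_right ((mem_centralizerIn.mp hc).2 t ht : Commute t (c : Ω))
              (Subgroup.mem_centralizer_iff.mp h6 t ht : Commute t _)).eq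
          show (c : Ω)⁻¹ * ((β (γ c) : ↥U) : Ω) ∈ _
          rw [show (c : Ω)⁻¹ * ((β (γ c) : ↥U) : Ω) =
            ((c : Ω)⁻¹ * ((γ c : ↥U) : Ω)) * (((γ c : ↥U) : Ω)⁻¹ * ((β (γ c) : ↥U) : Ω)) by group]
          exact mul_mem ⟨h5, h6⟩ (h2 _ hγc) }
  let K : Subgroup (MulAut ↥T) :=
    { G with
      inv_mem' := fun {a} ha => by
        haveI : Finite (MulAut ↥T) := finite_mulAut_of_le hTS
        have h1 : a⁻¹ = a ^ (orderOf a - 1) := inv_eq_of_mul_eq_one_right (by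
          rw [← pow_succ', Nat.sub_add_cancel (orderOf_pos a), pow_orderOf_eq_one])
        show a⁻¹ ∈ G
        rw [h1]
        exact G.pow_mem ha _ }
  suffices h : E.autGroup T ≤ K from h hα
  have hTn' : ∀ g ∈ S, g ∈ Subgroup.normalizer (T : Set Ω) := fun g hg => H90.normal_of_conj (hTn g hg)
  -- inner automorphisms
  have hinn : autInducedBy T T ≤ K := fun a ha => by
    obtain ⟨g, hg, hga⟩ := (H90.mem_autInducedBy_iff le_rfl).1 ha
    have hgn : g ∈ Subgroup.normalizer (U : Set Ω) := by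
      refine H90.normal_of_conj fun x hx => ?_
      exact U.mul_mem (U.mul_mem (le_sup_left (b := centralizerIn S T) hg) hx)
        (U.inv_mem (le_sup_left (b := centralizerIn S T) hg))
    refine ⟨H90.normAut U g hgn, H90.normAut_mem_aut F hUS (hTS hg) hgn, fun x => (hga x).symm,
      fun c hc => ?_⟩
    rw [H90.normAut_coe, show (c : Ω)⁻¹ * (g * (c : Ω) * g⁻¹) = 1 by
      rw [(mem_centralizerIn.mp hc).2 g hg]; group]
    exact one_mem _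
  -- elements of order prime to `p`
  have hTfn : F.IsFullyNormalized T := by
    refine ⟨hTS, fun Q _ => ?_⟩
    rw [show normalizerIn S T = S from
      le_antisymm normalizerIn_le fun g hg => ⟨hg, hTn' g hg⟩]
    exact Subgroup.card_le_of_le normalizerIn_le
  have hpp : ∀ a : ↥(E.autGroup T), Nat.Coprime (orderOf a) p → (a : MulAut ↥T) ∈ K := by
    intro a ha
    have haF : (a : MulAut ↥T) ∈ F.autGroup T :=
      H90.aut_mem_of_hom F (hi.1 T (H90.hom_of_aut_mem E le_rfl a.2))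
    have hh := H90.hom_of_aut_mem F hTS haF
    have hr : (T.subtype.comp (a : MulAut ↥T).toMonoidHom).range = T := by
      refine le_antisymm ?_ fun x hx => ⟨(a : MulAut ↥T)⁻¹ ⟨x, hx⟩,
        congrArg Subtype.val ((a : MulAut ↥T).apply_symm_apply _)⟩
      rintro _ ⟨x, rfl⟩
      exact ((a : MulAut ↥T) x).2
    obtain ⟨ψ, hψ, hψe⟩ := (receptive_of_isFullyNormalized hS hF hTfn).2 T _ hh hr
    have hUext : U ≤ extender S T (T.subtype.comp (a : MulAut ↥T).toMonoidHom) := by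
      refine sup_le (fun x hx => ?_) fun c hc => ?_
      · refine Subgroup.subset_closure ⟨hTS hx, Subgroup.le_normalizer hx,
          ((a : MulAut ↥T) ⟨x, hx⟩ : Ω), hTS ((a : MulAut ↥T) ⟨x, hx⟩).2, fun y hy => ?_⟩
        rw [show (⟨x * (y : Ω) * x⁻¹, hy⟩ : ↥T) = ⟨x, hx⟩ * y * ⟨x, hx⟩⁻¹ from Subtype.ext rfl,
          map_mul, map_mul, map_inv]
        rfl
      · refine Subgroup.subset_closure ⟨centralizerIn_le hc, hTn' c (centralizerIn_le hc), 1,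
          S.one_mem, fun y hy => ?_⟩
        rw [one_mul, inv_one, mul_one]
        refine congrArg _ (Subtype.ext ?_)
        show c * (y : Ω) * c⁻¹ = y
        rw [← (mem_centralizerIn.mp hc).2 y y.2, mul_inv_cancel_right]
    have hψU := H90.res_mem F hψ hUext
    have hψT : ∀ (x : Ω) (hx : x ∈ T) (hu : x ∈ U),
        H90.res ψ hUext ⟨x, hu⟩ = ((a : MulAut ↥T) ⟨x, hx⟩ : Ω) := fun x hx hu => hψe x hx _
    have hv : ∀ x, H90.res ψ hUext x ∈ U := by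
      rintro ⟨x, hx⟩
      suffices U ≤ (U.comap (H90.res ψ hUext)).map U.subtype by
        obtain ⟨y, hy, hye⟩ := this hx
        rwa [show (⟨x, hx⟩ : ↥U) = y from Subtype.ext hye.symm]
      refine sup_le (fun t ht => ?_) fun c hc => ?_
      · refine ⟨⟨t, le_sup_left (b := centralizerIn S T) ht⟩, ?_, rfl⟩
        show H90.res ψ hUext _ ∈ U
        rw [hψT t ht]
        exact le_sup_left (b := centralizerIn S T) ((a : MulAut ↥T) _).2
      · refine ⟨⟨c, le_sup_right (a := T) hc⟩, ?_, rfl⟩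
        refine le_sup_right (a := T) (mem_centralizerIn.mpr ⟨(F.le_of_mem hψU).2 _, fun t ht => ?_⟩)
        have ht' := hψT ((a : MulAut ↥T)⁻¹ ⟨t, ht⟩ : Ω) ((a : MulAut ↥T)⁻¹ ⟨t, ht⟩).2
          (le_sup_left (b := centralizerIn S T) ((a : MulAut ↥T)⁻¹ ⟨t, ht⟩).2)
        rw [show (a : MulAut ↥T) ⟨((a : MulAut ↥T)⁻¹ ⟨t, ht⟩ : Ω), _⟩ = ⟨t, ht⟩ from
          (a : MulAut ↥T).apply_symm_apply _] at ht'
        rw [← show _ = t from ht', ← map_mul, ← map_mul]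
        exact congrArg _ (Subtype.ext ((mem_centralizerIn.mp hc).2 _ ((a : MulAut ↥T)⁻¹ ⟨t, ht⟩).2))
    let b : ↥(F.autGroup U) := ⟨H90.toAut F hψU hv, H90.toAut_mem F hψU hv⟩
    obtain ⟨k, hk⟩ := Fusion.exists_pow_coprime (p := p) b
    obtain ⟨j, hj⟩ := exists_pow_eq_self_of_coprime (x := a) (n := p ^ k) (ha.pow_right k).symm
    have hres : ∀ (i : ℕ) (x : ↥T),
        ((((b ^ i : ↥(F.autGroup U)) : MulAut ↥U) (Subgroup.inclusion le_sup_left x) : ↥U) : Ω) =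
          ((((a : MulAut ↥T) ^ i) x : ↥T) : Ω) := by
      intro i
      induction i with
      | zero => intro x; rfl
      | succ i ih =>
        intro x
        rw [pow_succ, pow_succ]
        show ((((b ^ i : ↥(F.autGroup U)) : MulAut ↥U)
          ((b : MulAut ↥U) (Subgroup.inclusion le_sup_left x)) : ↥U) : Ω) = _
        rw [show (b : MulAut ↥U) (Subgroup.inclusion le_sup_left x) =
          Subgroup.inclusion le_sup_left ((a : MulAut ↥T) x) from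
            Subtype.ext (hψT x x.2 _), ih]
        rfl
    have hcop : Nat.Coprime (orderOf ((b ^ p ^ k) ^ j)) p :=
      hk.coprime_dvd_left (orderOf_pow_dvd j)
    refine ⟨(((b ^ p ^ k) ^ j : ↥(F.autGroup U)) : MulAut ↥U), SetLike.coe_mem _, fun x => ?_,
      fun c hc => ⟨hi.2.1 (H90.mem_hyp F hUS (Fusion.mem_pResidual hcop) c), ?_⟩⟩
    · rw [← pow_mul, hres, pow_mul]
      have := congrArg (fun z : ↥(E.autGroup T) => (z : MulAut ↥T)) hj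
      simp only [SubmonoidClass.coe_pow] at this
      rw [this]
    · refine Subgroup.mem_centralizer_iff.mpr fun t ht => ?_
      set β := (((b ^ p ^ k) ^ j : ↥(F.autGroup U)) : MulAut ↥U) with hβ
      have hct : Commute t (c : Ω) := (mem_centralizerIn.mp hc).2 t ht
      have hβc : Commute t ((β c : ↥U) : Ω) := by
        obtain ⟨t₀, ht₀⟩ : ∃ t₀ : ↥T, ((β (Subgroup.inclusion le_sup_left t₀) : ↥U) : Ω) = t := by
          refine ⟨((a : MulAut ↥T) ^ (p ^ k * j))⁻¹ ⟨t, ht⟩, ?_⟩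
          rw [hβ, ← pow_mul, hres]
          exact congrArg Subtype.val (MulEquiv.apply_symm_apply _ _)
        rw [← ht₀]
        have h1 : Commute (Subgroup.inclusion le_sup_left t₀ : ↥U) c :=
          Subtype.ext ((mem_centralizerIn.mp hc).2 _ t₀.2)
        exact congrArg Subtype.val (h1.map β).eq
      exact (hct.inv_right.mul_right hβc).eq
  have hTfnE : E.IsFullyNormalized T := by
    refine ⟨le_rfl, fun Q _ => ?_⟩
    rw [show normalizerIn T T = T from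
      le_antisymm normalizerIn_le fun g hg => ⟨hg, Subgroup.le_normalizer hg⟩]
    exact Subgroup.card_le_of_le normalizerIn_le
  obtain ⟨W, hW⟩ := (isFullyAutomized_of_isFullyNormalized (hS.to_le hTS) hE hTfnE).2
  · haveI := finite_autGroup E (le_refl T)
    intro a ha
    have htop : (K.subgroupOf (E.autGroup T)) = ⊤ := by
      refine top_le_iff.1 ((Fusion.sylow_sup_pResidual W).ge.trans (sup_le ?_ ?_))
      · rw [hW]
        exact Subgroup.comap_mono hinn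
      · exact (Subgroup.closure_le _).2 fun z hz => hpp z hz
    exact htop.ge (Subgroup.mem_top (⟨a, ha⟩ : ↥(E.autGroup T)))

/-- Saturated subsystems of `p`-power index over normal subgroups are normal. -/
theorem isNormalIn (hS : IsPGroup p S) {F : FusionSystem S} (hF : F.IsSaturated p)
    (hTS : T ≤ S) (hTn : ∀ g ∈ S, ∀ x ∈ T, g * x * g⁻¹ ∈ T) {E : FusionSystem T}
    (hE : E.IsSaturated p) (hi : E.HasPPowerIndexIn F p) : E.IsNormalIn F p := by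
  refine ⟨⟨hE, hF, hi.1, stronglyClosed hS hF hTS hTn hi.2.1, ?_, ?_⟩,
    fun α hα => extension hS hF hTS hTn hE hi hα⟩
  · intro P hPT φ hφ α hα
    obtain ⟨-, -, χ, hχ, he⟩ := le_pull hS hTS hE hi hα P hφ
    exact ⟨χ, hχ, fun x hφx _ => he x (hPT x.2) hφx⟩
  · intro P hPT φ hφ
    obtain ⟨g, hg, h⟩ := frattini hS hF hTS hTn hE hi P φ hφ
    obtain ⟨φ₀, hφ₀, he⟩ := h P le_rfl hPT
    haveI := finite_of_le hTS
    exact ⟨H90.normAut T g (H90.normal_of_conj (hTn g hg)),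
      H90.normAut_mem_aut F hTS hg _, φ₀, hφ₀, fun x _ => he x⟩

end Cfsg.Agent.Fusion.PPower
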